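import Mathlib

/-!
# Lattice automorphisms for the local subgroup at the prime 7
-/

set_option autoImplicit false
set_option maxRecDepth 20000

namespace CfsgLib.CoOneLocal

/-- The code. -/
def x7C : List ℕ := [12184820,6460222,16543868,5342415,5615563,12784612,12687109,2143752,12419378,9514995,11880064,15649203,13066760,11695569,15687006,13005320,14853416,9420784,12989229,9383549,8383021,9741395,7582482,9451483]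

/-- The matrix. -/
def x7M : List (List ℤ) := [[2,-2,-1,0,-1,-1,-1,-1,-2,0,-1,-1,-8,-7,-3,1,-1,-8,-6,1,-9,-5,-8,-9],
    [2,-5,3,13,-5,5,-6,-6,-3,15,-6,4,-73,-76,-34,-5,-20,-81,-68,-4,-68,-51,-81,-74],
    [2,-6,5,23,-5,11,-9,-12,-6,24,-10,6,-103,-113,-47,-14,-32,-120,-103,-7,-93,-79,-119,-103],
    [-1,5,-5,-21,6,-10,9,9,2,-22,9,-6,110,114,54,9,31,122,102,6,103,74,123,108],
    [5,-9,6,31,-10,14,-15,-17,-7,33,-15,7,-166,-173,-80,-15,-47,-186,-157,-8,-155,-114,-187,-168],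
    [-4,6,-3,-18,6,-9,9,11,5,-19,10,-4,99,104,48,10,29,113,94,4,94,68,113,93],
    [7,-10,3,24,-10,10,-14,-14,-7,25,-15,4,-151,-154,-74,-9,-41,-168,-138,-4,-146,-98,-169,-141],
    [-6,8,-2,-17,8,-6,10,10,6,-17,11,-2,109,111,52,5,28,122,100,2,106,71,122,102],
    [0,1,-2,-6,1,-3,2,4,1,-8,2,-2,20,24,8,5,7,24,23,3,15,19,24,27],
    [-1,1,0,0,1,1,1,-1,1,1,1,1,8,7,4,-2,1,8,6,0,9,4,8,3],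
    [0,0,0,0,0,0,0,1,0,-1,-1,0,-2,-2,-1,0,-1,-2,-1,0,-3,-1,-2,3],
    [1,-1,0,0,-1,-1,0,-1,-1,0,0,-1,0,0,1,1,2,-1,-1,1,0,-1,-1,-3],
    [-6,6,0,-7,6,0,6,6,6,-7,6,0,56,57,25,0,13,63,51,0,56,38,63,53],
    [-1,2,0,-2,1,0,1,1,1,-2,1,0,13,13,5,0,2,15,12,0,13,9,14,11],
    [-2,1,1,1,1,0,1,2,1,0,1,1,5,4,3,0,1,5,3,-1,6,1,5,7],
    [0,0,0,1,0,0,0,0,0,1,0,0,-3,-3,-1,0,0,-3,-3,0,-2,-2,-3,-7],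
    [2,-2,0,1,-2,-1,-2,-2,-1,2,-1,0,-14,-13,-6,1,-2,-15,-12,0,-14,-9,-15,-17],
    [2,-2,0,0,-1,-1,-1,-1,-1,-1,-1,-1,-5,-5,-2,1,1,-7,-5,1,-6,-4,-6,-5],
    [1,0,-1,-1,0,-1,0,0,-1,-1,0,0,3,3,2,0,0,3,3,0,2,2,3,5],
    [-1,0,1,1,1,1,1,0,0,1,1,1,6,3,4,-2,1,5,3,-1,8,0,6,1],
    [3,-2,-1,1,-2,-1,-2,-2,-2,1,-2,-1,-16,-15,-7,1,-3,-17,-13,1,-17,-9,-17,-16],
    [-1,1,0,0,1,0,1,0,0,0,1,0,10,9,6,-1,2,10,7,0,11,4,10,9],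
    [0,-1,0,0,-1,0,0,0,-1,1,0,0,-5,-5,-2,1,-1,-5,-4,0,-5,-3,-5,-4],
    [1,-1,0,1,-1,0,-1,-1,-1,1,-1,0,-9,-9,-4,0,-2,-10,-8,0,-9,-6,-10,-9]]

/-- The inverse. -/
def x7I : List (List ℤ) := [[1,1,-1,-1,-1,-1,-1,-1,-1,-1,-2,-1,-1,0,-1,0,-2,0,0,0,-1,1,-2,0],
    [10,9,-8,-10,-9,10,-11,-11,-8,-9,-16,-10,-65,-43,-58,3,-34,-44,-26,-1,-85,1,-72,-47],
    [19,15,-14,-15,-16,16,-19,-20,-14,-16,-29,-14,-115,-79,-99,2,-58,-86,-50,1,-151,-5,-132,-80],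
    [-15,-13,12,14,13,-15,15,17,12,13,23,14,92,61,83,-3,48,63,36,0,123,-2,103,67],
    [26,20,-19,-22,-22,23,-25,-27,-20,-21,-40,-21,-154,-105,-134,4,-80,-111,-64,0,-203,-4,-175,-107],
    [-14,-13,11,12,12,-16,14,15,11,12,23,11,94,65,82,-1,49,68,39,0,123,3,107,67],
    [19,18,-15,-18,-16,21,-19,-21,-16,-15,-32,-16,-116,-79,-104,0,-67,-79,-45,-2,-153,0,-132,-79],
    [-14,-12,11,13,12,-15,14,15,12,11,24,12,88,61,77,0,49,62,36,1,115,2,100,57],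
    [-6,-4,4,4,5,-4,6,5,4,5,9,4,38,27,31,-2,18,30,18,0,49,4,43,24],
    [1,0,0,0,-1,-1,-1,0,0,-1,0,0,-6,-4,-4,2,0,-6,-4,0,-7,-2,-6,-8],
    [-1,0,0,0,1,0,1,0,1,0,1,0,7,6,4,-1,3,7,5,1,8,4,8,2],
    [1,0,-1,0,-1,-1,-1,0,-1,0,-2,-1,-7,-6,-3,1,-3,-7,-5,0,-8,-3,-8,1],
    [-6,-7,6,6,6,-7,6,7,6,6,13,6,40,29,36,1,25,29,17,0,53,-1,48,18],
    [-2,-1,2,2,2,-2,2,2,2,2,3,2,16,11,13,-1,7,12,7,-1,20,1,17,12],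
    [0,-1,0,0,0,-1,0,-1,0,0,1,0,4,3,3,0,3,2,2,1,4,1,4,3],
    [1,0,0,-1,-1,0,-1,-1,-1,0,-2,-1,-2,-1,-1,0,-2,-1,-1,-1,-2,-1,-2,0],
    [2,1,-2,-2,-2,1,-2,-1,-2,-2,-3,-2,-15,-11,-12,2,-7,-11,-7,0,-19,-1,-16,-8],
    [2,0,-2,-1,-1,0,-1,-1,-2,-1,-2,-1,-8,-6,-5,0,-4,-7,-4,1,-10,-1,-9,-3],
    [-1,0,1,0,0,0,1,1,1,0,1,1,4,3,2,0,2,3,2,0,5,1,4,3],
    [1,1,-1,0,-1,0,-1,-1,0,-1,-1,-1,-8,-5,-6,1,-2,-7,-5,1,-10,0,-9,-7],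
    [0,2,-1,-1,-1,2,0,-1,-1,-1,-3,-1,-4,-3,-5,-1,-5,-2,-1,0,-6,2,-6,2],
    [0,-1,0,1,0,-1,0,0,0,0,0,1,-1,-2,1,0,1,-4,-2,1,-1,-3,-2,1],
    [0,1,0,0,0,1,-1,0,0,0,-1,-1,-5,-4,-4,0,-3,-3,-3,-1,-5,-1,-5,-4],
    [1,1,-1,-1,-1,1,-1,-1,-1,-1,-2,-1,-7,-5,-6,0,-4,-5,-3,0,-9,0,-8,-4]]

/-- The product with the form. -/
def x7G : List (List ℤ) := [[-2,-16,-25,22,-34,19,-26,19,7,0,0,-1,12,2,0,-1,-3,0,0,-1,-3,0,-1,-2],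
    [-8,-43,-65,41,-74,29,-31,17,31,-7,8,-10,21,-7,-6,-10,-13,1,-13,-8,8,-1,3,-4],
    [-11,-27,-41,2,-22,-8,30,-31,32,-13,14,-17,7,-18,-12,-14,-15,3,-26,-11,21,-5,7,-2],
    [11,62,96,-61,109,-43,44,-21,-48,13,-13,15,-26,11,9,15,19,-2,19,12,-14,2,-6,5],
    [-16,-62,-96,39,-88,21,-4,-11,57,-18,20,-24,23,-22,-16,-22,-24,4,-35,-16,27,-5,9,-5],
    [8,31,50,-14,41,-8,-6,13,-32,11,-13,14,-9,14,9,13,13,-2,22,9,-18,3,-6,2],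
    [-13,-63,-101,50,-103,37,-30,10,53,-15,17,-20,26,-17,-12,-18,-21,2,-28,-13,22,-3,7,-5],
    [9,47,78,-40,82,-33,29,-13,-39,11,-12,14,-21,12,7,12,15,-1,20,9,-15,2,-5,4],
    [3,1,0,11,-11,13,-23,19,-6,3,-4,5,2,6,4,4,3,-2,8,3,-7,2,-1,0],
    [0,11,20,-18,29,-18,25,-18,-5,0,0,0,-7,-1,-1,0,1,1,-1,0,1,-1,0,1],
    [-1,-20,-34,32,-50,30,-41,29,10,-1,0,0,13,3,2,-1,-3,-1,2,-1,-4,1,0,-2],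
    [-1,-6,-9,7,-12,7,-10,8,2,1,0,-1,6,1,0,0,-1,0,0,0,-1,0,-2,-1],
    [6,61,103,-78,132,-71,89,-59,-37,6,-7,7,-37,1,1,6,13,0,7,6,-1,0,0,6],
    [1,14,25,-18,31,-17,20,-13,-9,2,-2,1,-6,0,0,2,2,0,2,2,-1,0,-1,1],
    [0,0,1,2,0,0,-1,1,-1,0,-1,1,0,1,0,1,0,0,1,0,-1,0,0,0],
    [0,3,4,-5,8,-5,7,-4,-2,1,-1,0,-1,-1,-1,0,1,0,-1,0,1,0,0,0],
    [-2,-19,-30,24,-40,21,-28,19,11,-1,2,-2,12,1,0,-2,-4,0,-1,-2,-1,0,-1,-2],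
    [0,1,0,-3,2,-1,3,-2,1,-1,1,-1,0,-1,0,0,0,0,-1,0,1,-1,0,0],
    [1,12,20,-17,28,-16,21,-14,-7,1,-1,1,-6,-1,0,1,2,0,0,0,0,0,0,1],
    [-1,-9,-14,12,-19,10,-13,9,5,-1,1,-1,6,0,0,-1,-2,0,0,-1,-1,0,0,-1],
    [-1,-33,-57,49,-78,45,-59,40,18,-2,2,-1,19,2,1,-2,-5,0,0,-2,-2,1,0,-3],
    [1,8,11,-10,16,-8,12,-9,-4,0,0,1,-6,0,0,1,2,1,0,1,1,-1,0,1],
    [-2,-19,-32,26,-44,26,-35,25,9,0,1,-1,13,2,1,-1,-3,-1,0,-1,-2,1,-1,-2],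
    [-1,-10,-17,13,-22,12,-15,10,6,-1,1,-1,6,0,0,-1,-2,0,-1,-1,0,0,0,-1]]

/-- The code. -/
def y7_0C : List ℕ := [15247321,15369171,14748343,2925843,14103781,15271420,4281730,5929793,12038631,3399871,13794049,8940325,421123,9439496,4041088,7686435,3648002,8810688,12724354,12163720,15965459,167219,9963831,7392202]

/-- The matrix. -/
def y7_0M : List (List ℤ) := [[1,0,0,-1,-1,0,-1,-1,1,-1,-1,0,-4,-3,-4,1,0,-4,-2,1,-6,1,-5,-3],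
    [-3,13,-2,-8,1,0,-7,-9,11,-9,4,12,22,24,-8,-11,2,23,24,3,14,35,13,5],
    [-5,21,-3,-12,1,-3,-10,-15,18,-15,8,21,46,46,-6,-18,7,42,44,6,32,59,27,23],
    [3,-19,4,12,-1,2,10,14,-15,14,-7,-18,-36,-39,8,17,-4,-36,-37,-5,-24,-53,-22,-8],
    [-7,30,-5,-16,2,-3,-15,-21,26,-20,11,30,55,57,-14,-26,7,51,55,8,35,80,29,23],
    [4,-18,3,9,-1,3,9,13,-15,12,-7,-18,-36,-36,6,16,-5,-32,-34,-5,-24,-47,-19,-19],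
    [-6,25,-4,-12,2,-2,-12,-17,21,-16,9,24,45,46,-11,-22,5,42,44,6,28,64,23,24],
    [5,-18,2,8,-2,0,9,12,-15,11,-6,-17,-31,-31,9,16,-2,-29,-30,-3,-19,-44,-15,-20],
    [1,-5,1,4,0,1,3,5,-5,4,-2,-6,-13,-13,2,5,-3,-11,-13,-2,-9,-17,-8,-5],
    [1,-1,-1,-1,-1,-1,0,-1,0,0,0,0,-2,-1,-1,1,1,-3,0,2,-3,1,-2,-4],
    [1,0,0,0,0,0,0,0,-1,-1,0,-1,1,1,1,0,0,1,0,0,1,0,1,1],
    [-1,0,1,0,0,1,0,0,1,1,0,1,0,-1,-1,0,0,0,0,-1,0,0,0,1],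
    [1,-7,0,6,0,0,6,6,-7,6,-1,-7,-12,-13,7,6,0,-13,-13,0,-6,-20,-6,-10],
    [0,-2,0,1,0,0,2,2,-1,2,0,-1,-2,-2,2,2,0,-2,-2,0,-1,-4,0,1],
    [0,0,0,0,0,0,0,1,-1,0,0,-1,-2,-1,0,1,-1,0,-1,-1,-1,-1,0,-4],
    [-1,1,0,0,0,1,0,0,1,0,0,1,-2,-2,-3,0,-1,-2,-1,0,-3,1,-3,0],
    [0,1,0,-2,0,0,-2,-2,2,-1,0,1,2,3,-2,-1,1,3,3,0,1,5,2,-2],
    [0,0,0,0,0,0,-1,-1,0,0,0,0,-1,-1,-1,0,0,-1,-1,0,-2,0,-2,1],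
    [0,-1,0,0,0,0,0,1,0,0,0,-1,-4,-3,-2,2,0,-3,-2,0,-4,-2,-3,-3],
    [0,0,0,-1,0,0,0,-1,0,-1,0,1,5,4,2,-1,1,4,4,1,5,3,4,3],
    [1,1,0,-2,-1,0,-2,-2,1,-2,-1,1,-1,0,-4,-1,-1,-1,0,0,-3,3,-3,1],
    [1,-1,0,0,-1,-1,0,0,-1,0,-1,-1,-2,-2,0,1,0,-3,-2,0,-2,-2,-2,0],
    [-1,1,1,0,1,1,0,0,1,0,0,1,6,4,2,-2,0,6,4,-1,7,2,6,5],
    [0,1,0,-1,0,0,-1,-1,1,-1,0,1,2,2,-1,-1,0,2,2,0,1,3,1,2]]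

/-- The inverse. -/
def y7_0I : List (List ℤ) := [[0,0,0,1,1,0,1,1,-1,1,1,0,4,3,4,-1,0,4,2,-1,6,-1,5,3],
    [3,-12,2,8,-1,0,7,9,-11,9,-4,-12,-22,-24,8,11,-2,-23,-24,-3,-14,-35,-13,-5],
    [5,-21,4,12,-1,3,10,15,-18,15,-8,-21,-46,-46,6,18,-7,-42,-44,-6,-32,-59,-27,-23],
    [-3,19,-4,-11,1,-2,-10,-14,15,-14,7,18,36,39,-8,-17,4,36,37,5,24,53,22,8],
    [7,-30,5,16,-1,3,15,21,-26,20,-11,-30,-55,-57,14,26,-7,-51,-55,-8,-35,-80,-29,-23],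
    [-4,18,-3,-9,1,-2,-9,-13,15,-12,7,18,36,36,-6,-16,5,32,34,5,24,47,19,19],
    [6,-25,4,12,-2,2,13,17,-21,16,-9,-24,-45,-46,11,22,-5,-42,-44,-6,-28,-64,-23,-24],
    [-5,18,-2,-8,2,0,-9,-11,15,-11,6,17,31,31,-9,-16,2,29,30,3,19,44,15,20],
    [-1,5,-1,-4,0,-1,-3,-5,6,-4,2,6,13,13,-2,-5,3,11,13,2,9,17,8,5],
    [-1,1,1,1,1,1,0,1,0,1,0,0,2,1,1,-1,-1,3,0,-2,3,-1,2,4],
    [-1,0,0,0,0,0,0,0,1,1,1,1,-1,-1,-1,0,0,-1,0,0,-1,0,-1,-1],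
    [1,0,-1,0,0,-1,0,0,-1,-1,0,0,0,1,1,0,0,0,0,1,0,0,0,-1],
    [-1,7,0,-6,0,0,-6,-6,7,-6,1,7,13,13,-7,-6,0,13,13,0,6,20,6,10],
    [0,2,0,-1,0,0,-2,-2,1,-2,0,1,2,3,-2,-2,0,2,2,0,1,4,0,-1],
    [0,0,0,0,0,0,0,-1,1,0,0,1,2,1,1,-1,1,0,1,1,1,1,0,4],
    [1,-1,0,0,0,-1,0,0,-1,0,0,-1,2,2,3,1,1,2,1,0,3,-1,3,0],
    [0,-1,0,2,0,0,2,2,-2,1,0,-1,-2,-3,2,1,0,-3,-3,0,-1,-5,-2,2],
    [0,0,0,0,0,0,1,1,0,0,0,0,1,1,1,0,0,2,1,0,2,0,2,-1],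
    [0,1,0,0,0,0,0,-1,0,0,0,1,4,3,2,-2,0,3,3,0,4,2,3,3],
    [0,0,0,1,0,0,0,1,0,1,0,-1,-5,-4,-2,1,-1,-4,-4,0,-5,-3,-4,-3],
    [-1,-1,0,2,1,0,2,2,-1,2,1,-1,1,0,4,1,1,1,0,0,4,-3,3,-1],
    [-1,1,0,0,1,1,0,0,1,0,1,1,2,2,0,-1,0,3,2,0,2,3,2,0],
    [1,-1,-1,0,-1,-1,0,0,-1,0,0,-1,-6,-4,-2,2,0,-6,-4,1,-7,-2,-5,-5],
    [0,-1,0,1,0,0,1,1,-1,1,0,-1,-2,-2,1,1,0,-2,-2,0,-1,-3,-1,-1]]

/-- The product with the form. -/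
def y7_0G : List (List ℤ) := [[3,28,48,-40,65,-38,51,-37,-14,1,-2,2,-19,-5,-1,2,5,2,-1,2,4,0,1,3],
    [15,379,646,-576,902,-545,718,-509,-185,12,-10,7,-235,-56,-20,7,58,16,-19,19,46,-11,8,37],
    [21,615,1061,-941,1478,-899,1176,-831,-303,22,-16,8,-374,-90,-34,11,90,24,-29,29,71,-17,9,59],
    [-20,-549,-938,840,-1311,794,-1045,739,267,-17,12,-8,337,80,28,-8,-82,-22,29,-26,-65,16,-10,-53],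
    [32,880,1510,-1345,2109,-1280,1680,-1188,-431,30,-22,13,-539,-129,-48,15,131,35,-44,41,104,-25,15,85],
    [-18,-517,-888,791,-1240,755,-989,700,252,-17,11,-6,316,76,29,-8,-76,-21,25,-24,-61,16,-8,-50],
    [28,738,1264,-1125,1766,-1072,1411,-1000,-359,22,-17,11,-456,-109,-40,13,110,32,-37,34,88,-23,14,72],
    [-20,-520,-892,792,-1245,755,-994,706,253,-15,12,-8,322,77,28,-10,-77,-23,26,-24,-62,16,-10,-51],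
    [-6,-177,-306,271,-427,260,-339,239,89,-8,6,-3,108,26,11,-3,-27,-6,8,-8,-21,4,-3,-17],
    [-1,-6,-9,7,-13,7,-12,10,2,2,0,-1,6,1,0,-1,-1,-2,1,0,-1,1,-1,-1],
    [1,-13,-25,21,-35,23,-28,19,8,-2,2,0,7,2,2,0,-2,0,0,0,-1,0,0,-1],
    [1,7,14,-9,18,-11,14,-11,-5,1,-2,2,-6,-2,-1,1,2,1,0,0,1,1,1,1],
    [-13,-262,-452,396,-627,379,-501,359,128,-6,7,-7,170,40,14,-7,-40,-14,13,-13,-34,7,-7,-27],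
    [-2,-61,-104,93,-145,88,-116,83,29,-1,1,0,38,10,3,-1,-9,-3,3,-3,-8,2,-1,-6],
    [-1,-19,-33,30,-47,29,-38,27,9,-1,0,0,12,3,2,0,-3,-1,1,-1,-3,1,0,-2],
    [1,32,53,-48,76,-45,61,-43,-16,1,-2,1,-19,-5,-2,2,5,1,-2,1,4,-1,1,3],
    [3,57,97,-86,135,-81,107,-77,-28,2,-2,2,-38,-9,-3,1,10,3,-3,3,8,-1,2,6],
    [1,18,33,-27,45,-27,35,-26,-10,1,-1,1,-12,-3,-1,1,3,2,-1,1,2,0,0,2],
    [-1,-21,-37,32,-51,31,-41,29,11,-1,1,-1,13,3,1,0,-3,-1,2,-1,-2,0,-1,-2],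
    [1,20,36,-31,49,-29,38,-27,-11,1,-1,1,-13,-3,-1,1,3,1,-1,2,3,0,0,2],
    [4,64,109,-97,152,-91,123,-89,-30,0,-1,2,-44,-10,-3,2,10,4,-4,3,10,-2,2,7],
    [-2,-29,-46,43,-66,38,-53,38,13,0,0,-1,19,4,1,-1,-5,-2,2,-2,-4,2,-1,-3],
    [2,27,47,-39,64,-39,52,-38,-13,0,-1,1,-19,-5,-2,1,4,2,-1,2,4,-1,2,3],
    [2,39,67,-59,93,-56,74,-53,-19,1,-1,1,-25,-6,-2,1,6,2,-2,2,5,-1,1,4]]

/-- The code. -/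
def y7_1C : List ℕ := [14925195,15275291,5938429,14037640,11491460,1247836,7938714,14553774,3649037,12130445,12062860,16264739,5576212,6116656,3843361,2494426,1744297,876628,728363,16119332,2037060,14235049,16402878,9201802]

/-- The matrix. -/
def y7_1M : List (List ℤ) := [[-1,1,0,1,0,2,0,1,1,0,1,1,-11,-9,-8,1,-3,-9,-6,0,-12,-1,-11,-11],
    [-17,9,-4,9,1,18,0,8,19,-2,19,8,-117,-86,-88,20,-17,-98,-68,15,-140,3,-117,-113],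
    [-25,12,-9,13,-1,27,-1,11,30,-4,31,13,-203,-150,-150,35,-28,-173,-118,29,-245,4,-205,-196],
    [24,-12,6,-13,0,-26,0,-11,-28,3,-28,-12,177,131,132,-30,24,151,105,-24,213,-2,179,169],
    [-38,18,-11,20,0,40,0,17,44,-4,44,19,-281,-208,-209,48,-39,-239,-165,39,-338,5,-284,-267],
    [22,-10,7,-11,1,-22,1,-10,-26,3,-26,-11,170,126,126,-30,23,145,100,-24,205,-2,172,160],
    [-32,15,-8,17,-1,32,0,15,36,-3,36,16,-232,-173,-172,40,-33,-198,-138,31,-279,1,-235,-214],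
    [24,-11,5,-13,0,-23,0,-11,-26,1,-26,-12,163,122,120,-28,24,139,97,-21,195,0,165,149],
    [7,-4,3,-3,0,-8,0,-2,-8,1,-9,-3,52,37,40,-9,7,43,29,-8,63,-5,52,54],
    [1,0,-1,-1,0,0,0,-1,0,0,0,-1,1,2,0,0,1,2,2,1,1,3,2,-5],
    [0,0,1,1,0,0,0,1,0,0,0,0,-1,-2,0,0,0,-2,-2,-1,-1,-3,-2,3],
    [-1,1,0,0,0,1,0,0,0,1,1,1,-2,-1,-2,0,-2,0,0,-1,-1,1,-1,-5],
    [12,-6,1,-6,1,-12,0,-6,-12,1,-13,-6,81,60,60,-14,13,68,47,-8,95,0,81,76],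
    [4,-2,0,-2,-1,-3,0,-2,-3,0,-3,-2,15,12,11,-2,3,12,9,-1,17,0,15,14],
    [1,0,0,0,0,-1,0,0,-1,0,-1,0,4,3,4,-1,0,3,2,-1,5,-1,4,4],
    [-2,1,0,1,1,2,1,1,1,1,1,1,-2,-2,-2,0,-2,-1,-1,0,-2,1,-2,0],
    [-3,2,0,1,0,3,0,1,3,0,3,1,-15,-10,-12,3,-2,-11,-8,1,-17,2,-14,-18],
    [0,0,-1,0,-1,0,-1,0,0,0,0,0,-12,-9,-7,2,-3,-10,-7,1,-14,-2,-12,-8],
    [1,-1,0,-1,0,-1,0,0,-1,0,-1,-1,5,4,4,0,1,5,4,-1,6,0,6,4],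
    [0,0,-1,0,0,1,0,0,0,-1,1,0,-7,-5,-5,1,-1,-6,-3,2,-9,1,-7,-7],
    [-4,2,1,2,0,4,1,2,3,0,3,2,-15,-12,-12,2,-3,-13,-9,1,-17,0,-16,-12],
    [1,0,0,-1,0,-1,0,-1,-1,0,-1,0,9,7,6,-2,1,8,6,-1,11,2,9,5],
    [-2,1,1,1,1,1,0,1,1,0,2,1,0,0,-1,0,0,1,0,-1,1,1,1,-3],
    [-2,1,0,1,0,2,0,1,2,0,2,1,-12,-9,-9,2,-2,-10,-7,1,-14,0,-12,-11]]

/-- The inverse. -/
def y7_1I : List (List ℤ) := [[2,-1,0,-1,0,-2,0,-1,-1,0,-1,-1,11,9,8,-1,3,9,6,0,12,1,11,11],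
    [17,-8,4,-9,-1,-18,0,-8,-19,2,-19,-8,117,86,88,-20,17,98,68,-15,140,-3,117,113],
    [25,-12,10,-13,1,-27,1,-11,-30,4,-31,-13,203,150,150,-35,28,173,118,-29,245,-4,205,196],
    [-24,12,-6,14,0,26,0,11,28,-3,28,12,-177,-131,-132,30,-24,-151,-105,24,-213,2,-179,-169],
    [38,-18,11,-20,1,-40,0,-17,-44,4,-44,-19,281,208,209,-48,39,239,165,-39,338,-5,284,267],
    [-22,10,-7,11,-1,23,-1,10,26,-3,26,11,-170,-126,-126,30,-23,-145,-100,24,-205,2,-172,-160],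
    [32,-15,8,-17,1,-32,1,-15,-36,3,-36,-16,232,173,172,-40,33,198,138,-31,279,-1,235,214],
    [-24,11,-5,13,0,23,0,12,26,-1,26,12,-163,-122,-120,28,-24,-139,-97,21,-195,0,-165,-149],
    [-7,4,-3,3,0,8,0,2,9,-1,9,3,-52,-37,-40,9,-7,-43,-29,8,-63,5,-52,-54],
    [-1,0,1,1,0,0,0,1,0,1,0,1,-1,-2,0,0,-1,-2,-2,-1,-1,-3,-2,5],
    [0,0,-1,-1,0,0,0,-1,0,0,1,0,1,2,0,0,0,2,2,1,1,3,2,-3],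
    [1,-1,0,0,0,-1,0,0,0,-1,-1,0,2,1,2,0,2,0,0,1,1,-1,1,5],
    [-12,6,-1,6,-1,12,0,6,12,-1,13,6,-80,-60,-60,14,-13,-68,-47,8,-95,0,-81,-76],
    [-4,2,0,2,1,3,0,2,3,0,3,2,-15,-11,-11,2,-3,-12,-9,1,-17,0,-15,-14],
    [-1,0,0,0,0,1,0,0,1,0,1,0,-4,-3,-3,1,0,-3,-2,1,-5,1,-4,-4],
    [2,-1,0,-1,-1,-2,-1,-1,-1,-1,-1,-1,2,2,2,1,2,1,1,0,2,-1,2,0],
    [3,-2,0,-1,0,-3,0,-1,-3,0,-3,-1,15,10,12,-3,3,11,8,-1,17,-2,14,18],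
    [0,0,1,0,1,0,1,0,0,0,0,0,12,9,7,-2,3,11,7,-1,14,2,12,8],
    [-1,1,0,1,0,1,0,0,1,0,1,1,-5,-4,-4,0,-1,-5,-3,1,-6,0,-6,-4],
    [0,0,1,0,0,-1,0,0,0,1,-1,0,7,5,5,-1,1,6,3,-1,9,-1,7,7],
    [4,-2,-1,-2,0,-4,-1,-2,-3,0,-3,-2,15,12,12,-2,3,13,9,-1,18,0,16,12],
    [-1,0,0,1,0,1,0,1,1,0,1,0,-9,-7,-6,2,-1,-8,-6,1,-11,-1,-9,-5],
    [2,-1,-1,-1,-1,-1,0,-1,-1,0,-2,-1,0,0,1,0,0,-1,0,1,-1,-1,0,3],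
    [2,-1,0,-1,0,-2,0,-1,-2,0,-2,-1,12,9,9,-2,2,10,7,-1,14,0,12,12]]

/-- The product with the form. -/
def y7_1G : List (List ℤ) := [[3,25,43,-35,59,-35,49,-36,-12,-1,-1,2,-20,-5,-1,2,4,2,-1,1,5,0,2,3],
    [18,379,636,-576,900,-529,734,-525,-175,-7,-2,9,-254,-59,-12,20,52,19,-34,21,57,-13,19,39],
    [26,625,1061,-961,1498,-885,1219,-868,-292,-7,-3,11,-411,-98,-20,30,83,30,-57,35,91,-19,27,63],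
    [-25,-549,-918,840,-1302,764,-1062,758,251,10,0,-11,364,85,16,-27,-75,-27,52,-31,-82,20,-26,-56],
    [38,882,1490,-1354,2109,-1244,1720,-1227,-409,-13,-3,17,-586,-138,-29,43,119,44,-82,49,132,-29,40,90],
    [-21,-533,-902,821,-1276,755,-1040,741,247,7,1,-8,351,84,18,-25,-71,-26,49,-30,-79,18,-23,-54],
    [30,722,1221,-1108,1726,-1021,1411,-1008,-333,-13,-1,13,-481,-114,-24,35,96,37,-67,40,108,-25,34,74],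
    [-21,-504,-855,773,-1206,714,-986,706,232,10,0,-9,338,80,16,-25,-66,-26,46,-28,-76,17,-24,-52],
    [-8,-187,-317,287,-449,265,-365,260,89,1,2,-4,124,29,7,-9,-26,-9,17,-10,-28,5,-8,-19],
    [1,13,20,-20,30,-17,23,-15,-7,2,-1,0,-7,-2,-1,0,3,0,-1,1,2,0,0,1],
    [0,-21,-38,33,-54,33,-44,31,12,-1,2,-1,14,3,2,-1,-3,-1,2,-1,-3,0,-1,-2],
    [1,5,11,-6,14,-9,12,-10,-4,0,-1,2,-7,-1,-1,1,1,1,0,0,2,1,1,1],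
    [-12,-243,-415,369,-580,344,-476,343,112,7,0,-6,170,39,7,-13,-32,-13,20,-13,-39,7,-13,-26],
    [-2,-58,-96,88,-136,80,-111,80,26,2,0,-1,39,10,1,-3,-8,-3,5,-3,-9,2,-3,-6],
    [-1,-27,-47,42,-66,40,-54,39,13,0,0,0,19,5,2,-1,-4,-2,2,-2,-5,1,-1,-3],
    [1,19,34,-29,48,-28,39,-28,-10,0,-1,1,-13,-3,-1,2,2,1,-2,1,3,0,1,2],
    [4,63,104,-93,147,-86,121,-88,-29,-2,-1,3,-46,-10,-2,4,10,4,-5,3,11,-2,4,7],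
    [1,15,27,-22,36,-22,30,-23,-7,-1,0,1,-13,-3,0,1,2,2,-1,1,3,0,1,2],
    [-1,-6,-9,9,-13,7,-11,9,2,1,-1,-1,6,1,0,0,-1,-1,2,-1,-2,0,-1,-1],
    [2,18,30,-26,41,-23,32,-23,-9,0,0,1,-13,-3,0,1,3,1,-1,2,3,0,1,2],
    [3,53,89,-80,124,-73,103,-75,-23,-3,1,1,-39,-9,-1,3,7,3,-4,3,10,-2,3,6],
    [-2,-27,-44,39,-62,36,-51,37,12,1,0,-1,19,4,1,-2,-4,-2,2,-2,-4,2,-2,-3],
    [1,16,29,-23,39,-24,32,-24,-8,-1,0,1,-13,-3,-1,1,2,1,-1,1,3,0,2,2],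
    [2,37,63,-56,88,-52,72,-52,-17,-1,0,1,-26,-6,-1,2,5,2,-3,2,6,-1,2,4]]

/-- The code. -/
def y7_2C : List ℕ := [12084583,15003977,4312754,2973270,8230129,4085119,15119308,12668182,16014640,4670095,4952322,15439721,16225677,10328328,4432189,1384182,14077874,4081590,1762591,1162750,550301,10330527,4229114,9983154]

/-- The matrix. -/
def y7_2M : List (List ℤ) := [[-1,1,1,2,0,1,1,0,1,0,1,0,0,-1,-1,0,2,-2,-2,1,-1,1,-2,1],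
    [-17,8,18,17,10,6,-1,10,19,-4,10,2,15,5,-7,-1,22,4,-15,-8,14,1,5,27],
    [-30,11,32,30,17,11,-2,17,32,-5,19,5,20,2,-13,-1,37,0,-30,-14,18,-4,1,44],
    [24,-11,-27,-24,-15,-8,3,-14,-28,7,-15,-3,-25,-10,9,2,-33,-8,21,13,-24,-1,-10,-42],
    [-41,16,44,42,25,15,-3,23,46,-8,25,6,33,8,-16,-3,53,4,-39,-19,31,-3,7,64],
    [25,-9,-27,-25,-15,-9,3,-14,-27,4,-15,-4,-17,-2,11,2,-30,-1,25,13,-17,5,-2,-36],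
    [-34,14,37,35,20,12,-3,19,37,-5,20,4,27,7,-12,-3,42,5,-33,-18,28,-5,7,51],
    [26,-11,-27,-26,-15,-10,2,-14,-27,2,-15,-3,-18,-4,9,2,-29,-4,24,14,-20,4,-5,-33],
    [8,-2,-8,-8,-5,-3,0,-4,-9,2,-5,-1,-7,-2,3,0,-12,0,7,2,-5,-1,-1,-15],
    [1,-1,-1,-1,0,0,0,-1,0,-1,0,0,0,0,-1,0,1,-1,1,2,-2,2,-1,0],
    [0,1,0,0,0,0,0,0,-1,0,0,0,3,2,2,-1,-1,3,2,-1,4,0,3,4],
    [-1,0,0,1,0,1,1,0,1,1,1,0,-3,-2,-2,1,1,-3,-2,1,-4,1,-3,-3],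
    [13,-6,-13,-13,-6,-6,0,-7,-13,0,-7,0,-3,2,8,-1,-13,3,15,6,-3,1,3,-15],
    [4,-2,-4,-3,-2,-2,0,-2,-3,0,-2,-1,-5,-2,0,1,-3,-4,1,3,-7,0,-4,-3],
    [1,0,-1,-1,-1,-1,0,0,-1,0,0,0,-2,-1,0,1,-1,-1,0,0,-2,0,-1,-4],
    [-2,1,1,2,1,1,1,1,2,1,1,1,1,0,0,0,1,0,-1,0,1,0,0,2],
    [-2,1,2,2,1,1,0,1,3,-1,1,-1,0,0,-3,1,4,-1,-3,0,-1,2,-1,1],
    [-2,1,1,2,1,1,0,1,1,1,1,0,-2,-2,-1,0,0,-1,-3,-1,-1,-1,-2,-2],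
    [1,-1,-1,-1,-1,0,0,0,-1,0,-1,0,-6,-5,-3,1,-2,-5,-2,1,-7,-2,-6,-4],
    [-2,1,1,1,1,1,1,1,1,0,1,1,5,3,2,-1,1,4,2,0,5,2,4,8],
    [-3,2,3,3,1,2,0,1,3,0,1,0,0,-1,-3,0,2,-2,-4,-1,0,0,-2,4],
    [1,-1,-1,-1,-1,0,0,-1,-1,0,0,0,-4,-3,-2,1,-1,-4,-1,1,-5,0,-4,-5],
    [-2,1,2,1,1,1,1,1,1,1,1,0,8,6,4,-1,2,8,4,-2,10,2,9,6],
    [-2,1,2,2,1,1,0,1,2,0,1,0,1,0,-1,0,2,0,-2,-1,1,0,0,3]]

/-- The inverse. -/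
def y7_2I : List (List ℤ) := [[2,-1,-1,-2,0,-1,-1,0,-1,0,-1,0,0,1,1,0,-2,2,2,-1,1,-1,2,-1],
    [17,-7,-18,-17,-10,-6,1,-10,-19,4,-10,-2,-15,-5,7,1,-22,-4,15,8,-14,-1,-5,-27],
    [30,-11,-31,-30,-17,-11,2,-17,-32,5,-19,-5,-20,-2,13,1,-37,0,30,14,-18,4,-1,-44],
    [-24,11,27,25,15,8,-3,14,28,-7,15,3,25,10,-9,-2,33,8,-21,-13,24,1,10,42],
    [41,-16,-44,-42,-24,-15,3,-23,-46,8,-25,-6,-33,-8,16,3,-53,-4,39,19,-31,3,-7,-64],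
    [-25,9,27,25,15,10,-3,14,27,-4,15,4,17,2,-11,-2,30,1,-25,-13,17,-5,2,36],
    [34,-14,-37,-35,-20,-12,4,-19,-37,5,-20,-4,-27,-7,12,3,-42,-5,33,18,-28,5,-7,-51],
    [-26,11,27,26,15,10,-2,15,27,-2,15,3,18,4,-9,-2,29,4,-24,-14,20,-4,5,33],
    [-8,2,8,8,5,3,0,4,10,-2,5,1,7,2,-3,0,12,0,-7,-2,5,1,1,15],
    [-1,1,1,1,0,0,0,1,0,2,0,0,0,0,1,0,-1,1,-1,-2,2,-2,1,0],
    [0,-1,0,0,0,0,0,0,1,0,1,0,-3,-2,-2,1,1,-3,-2,1,-4,0,-3,-4],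
    [1,0,0,-1,0,-1,-1,0,-1,-1,-1,1,3,2,2,-1,-1,3,2,-1,4,-1,3,3],
    [-13,6,13,13,6,6,0,7,13,0,7,0,4,-2,-8,1,13,-3,-15,-6,3,-1,-3,15],
    [-4,2,4,3,2,2,0,2,3,0,2,1,5,3,0,-1,3,4,-1,-3,7,0,4,3],
    [-1,0,1,1,1,1,0,0,1,0,0,0,2,1,1,-1,1,1,0,0,2,0,1,4],
    [2,-1,-1,-2,-1,-1,-1,-1,-2,-1,-1,-1,-1,0,0,1,-1,0,1,0,-1,0,0,-2],
    [2,-1,-2,-2,-1,-1,0,-1,-3,1,-1,1,0,0,3,-1,-3,1,3,0,1,-2,1,-1],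
    [2,-1,-1,-2,-1,-1,0,-1,-1,-1,-1,0,2,2,1,0,0,2,3,1,1,1,2,2],
    [-1,1,1,1,1,0,0,0,1,0,1,0,6,5,3,-1,2,5,3,-1,7,2,6,4],
    [2,-1,-1,-1,-1,-1,-1,-1,-1,0,-1,-1,-5,-3,-2,1,-1,-4,-2,1,-5,-2,-4,-8],
    [3,-2,-3,-3,-1,-2,0,-1,-3,0,-1,0,0,1,3,0,-2,2,4,1,1,0,2,-4],
    [-1,1,1,1,1,0,0,1,1,0,0,0,4,3,2,-1,1,4,1,-1,5,1,4,5],
    [2,-1,-2,-1,-1,-1,-1,-1,-1,-1,-1,0,-8,-6,-4,1,-2,-8,-4,2,-10,-2,-8,-6],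
    [2,-1,-2,-2,-1,-1,0,-1,-2,0,-1,0,-1,0,1,0,-2,0,2,1,-1,0,0,-2]]

/-- The product with the form. -/
def y7_2G : List (List ℤ) := [[3,28,48,-39,66,-39,53,-38,-15,1,-2,2,-19,-5,-2,2,5,2,-2,2,4,0,2,3],
    [15,379,663,-573,930,-561,743,-522,-194,11,-18,6,-232,-56,-30,16,56,17,-30,19,44,-12,16,37],
    [21,598,1061,-914,1483,-897,1182,-830,-308,19,-26,6,-362,-88,-47,24,85,27,-48,30,67,-18,21,58],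
    [-21,-552,-965,840,-1356,818,-1084,762,279,-14,22,-6,337,81,43,-22,-80,-24,45,-27,-65,19,-22,-54],
    [31,852,1505,-1300,2109,-1275,1684,-1183,-436,25,-37,9,-519,-125,-68,34,122,38,-69,42,98,-27,32,83],
    [-17,-501,-890,767,-1245,755,-994,699,257,-15,21,-4,306,74,41,-19,-71,-23,40,-25,-58,16,-18,-49],
    [26,713,1258,-1086,1762,-1067,1411,-993,-363,19,-30,7,-439,-105,-57,28,102,33,-57,35,84,-24,28,70],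
    [-19,-507,-893,769,-1250,756,-1001,706,258,-13,22,-6,314,75,40,-21,-73,-24,40,-25,-60,17,-21,-50],
    [-5,-168,-301,259,-422,255,-335,234,89,-7,9,-2,100,24,14,-7,-24,-7,14,-8,-18,4,-5,-16],
    [-1,-5,-6,4,-8,5,-9,8,1,2,0,-1,7,1,0,-1,-1,-1,0,0,-2,1,-2,-1],
    [1,-5,-15,11,-20,13,-15,9,5,-2,2,0,1,0,1,0,0,0,1,0,1,-1,1,0],
    [1,8,16,-11,22,-13,18,-13,-6,1,-2,2,-7,-1,-1,1,2,1,-1,0,1,1,1,1],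
    [-13,-265,-464,396,-647,389,-518,367,136,-7,13,-6,170,40,20,-13,-40,-13,20,-14,-34,7,-13,-27],
    [-2,-61,-106,92,-149,90,-120,85,31,-1,3,-1,38,10,5,-3,-9,-3,5,-3,-8,2,-3,-6],
    [0,-9,-20,15,-27,17,-21,15,6,-1,1,0,6,1,2,0,-1,-1,1,-1,-1,0,0,-1],
    [1,23,40,-34,57,-34,46,-32,-12,1,-2,1,-13,-3,-2,2,3,1,-2,1,2,-1,1,2],
    [3,59,102,-88,144,-86,115,-81,-31,2,-4,2,-38,-9,-5,3,10,3,-5,3,8,-1,3,6],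
    [1,17,30,-25,42,-25,34,-25,-9,0,-1,1,-13,-3,-1,1,3,2,-2,1,3,0,1,2],
    [0,-10,-18,16,-26,16,-21,15,5,0,0,0,6,1,1,0,-1,0,2,0,-1,0,-1,-1],
    [1,20,35,-30,48,-28,37,-26,-11,1,-1,1,-12,-3,-1,1,3,1,-2,2,2,0,1,2],
    [4,66,113,-97,158,-94,127,-91,-33,1,-3,2,-44,-10,-5,4,10,3,-5,4,10,-2,4,7],
    [-2,-28,-45,40,-64,38,-52,37,13,0,1,-1,19,4,2,-1,-5,-2,2,-2,-4,2,-2,-3],
    [1,19,35,-27,47,-29,38,-27,-11,1,-2,1,-13,-3,-2,1,3,1,-1,1,2,0,2,2],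
    [2,39,68,-58,95,-57,76,-54,-20,1,-2,1,-25,-6,-3,2,6,2,-3,2,5,-1,2,4]]

/-- The code. -/
def y7_3C : List ℕ := [11279618,2274612,7623455,4873913,308769,2860814,12420572,11869593,10795542,15440318,4681208,2724358,14492742,15329407,11131119,270598,15044928,10451014,2037060,10339330,1312879,3519889,12924689,3059022]

/-- The matrix. -/
def y7_3M : List (List ℤ) := [[0,-1,0,0,0,0,0,0,1,0,1,-1,-3,-2,-2,2,2,-2,-1,1,-4,1,-2,-5],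
    [2,-10,-11,-10,1,-1,-10,0,9,-2,11,-8,-77,-47,-58,29,2,-49,-28,10,-96,11,-58,-110],
    [7,-19,-19,-17,-1,-4,-20,-2,13,-3,16,-14,-145,-92,-105,50,0,-98,-59,16,-179,9,-115,-198],
    [-3,14,16,15,-1,1,16,-1,-14,3,-17,11,123,76,93,-44,0,79,48,-13,152,-14,95,172],
    [9,-26,-28,-24,0,-5,-28,-2,20,-5,23,-20,-205,-129,-150,71,0,-138,-83,24,-254,16,-162,-276],
    [-6,15,17,15,0,4,18,2,-11,3,-13,12,120,75,88,-41,1,79,48,-13,148,-9,94,166],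
    [6,-20,-23,-19,1,-4,-23,-1,17,-4,19,-16,-166,-104,-122,57,-1,-110,-67,19,-205,13,-130,-225],
    [-3,14,16,13,-1,2,16,1,-13,2,-13,11,117,74,86,-40,1,78,47,-14,145,-9,92,155],
    [-4,7,7,6,1,2,6,2,-2,1,-4,5,43,27,30,-15,0,30,17,-6,54,-3,34,57],
    [2,-1,-1,-1,-1,-1,0,-1,-1,0,0,-1,-1,0,0,1,1,-1,0,1,-2,1,-1,-3],
    [-2,2,2,1,1,1,1,1,1,0,1,1,10,7,5,-2,1,9,5,-2,12,2,9,10],
    [0,-1,-1,0,0,0,0,0,0,1,0,0,-5,-4,-2,1,-1,-4,-2,1,-6,-1,-4,-2],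
    [0,7,7,6,0,0,7,0,-6,0,-7,6,58,37,42,-20,1,38,23,-7,71,-4,45,73],
    [1,1,1,1,-1,-1,1,0,-2,0,-2,1,8,5,7,-3,-1,4,2,-1,10,-3,5,15],
    [-1,1,1,1,0,1,1,1,0,0,0,1,1,0,1,-1,-1,0,0,-1,2,-1,0,3],
    [0,-1,-1,0,0,0,0,0,1,0,0,0,-6,-5,-4,2,0,-6,-3,2,-8,0,-6,-4],
    [0,-2,-2,-2,0,0,-1,0,1,0,2,-2,-11,-6,-8,5,1,-6,-3,2,-14,3,-7,-15],
    [0,-1,-1,0,0,0,-1,0,0,0,0,-1,-9,-7,-5,2,-1,-7,-5,1,-11,-2,-8,-7],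
    [0,0,1,0,0,0,1,0,-1,0,-1,0,9,6,6,-2,1,7,5,-1,11,0,8,10],
    [0,-1,0,0,0,0,0,0,0,0,1,0,-2,-2,-1,1,1,-2,-1,1,-3,0,-2,-3],
    [-1,-1,-1,-1,0,1,-1,0,2,0,2,-1,-12,-8,-10,4,0,-8,-5,2,-15,2,-10,-14],
    [1,0,0,0,-1,0,0,-1,-1,0,-1,0,-1,-1,0,-1,-1,-2,-1,0,-1,-1,-2,0],
    [-1,0,0,0,1,0,0,0,1,1,1,0,3,3,2,0,1,4,3,0,4,2,5,-1],
    [0,-1,-1,-1,0,0,-1,0,1,0,1,-1,-8,-5,-6,3,0,-5,-3,1,-10,1,-6,-10]]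

/-- The inverse. -/
def y7_3I : List (List ℤ) := [[1,1,0,0,0,0,0,0,-1,0,-1,1,3,2,2,-2,-2,2,1,-1,4,-1,2,5],
    [-2,11,11,10,-1,1,10,0,-9,2,-11,8,77,47,58,-29,-2,49,28,-10,96,-11,58,110],
    [-7,19,20,17,1,4,20,2,-13,3,-16,14,145,92,105,-50,0,98,59,-16,179,-9,115,198],
    [3,-14,-16,-14,1,-1,-16,1,14,-3,17,-11,-123,-76,-93,44,0,-79,-48,13,-152,14,-95,-172],
    [-9,26,28,24,1,5,28,2,-20,5,-23,20,205,129,150,-71,0,138,83,-24,254,-16,162,276],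
    [6,-15,-17,-15,0,-3,-18,-2,11,-3,13,-12,-120,-75,-88,41,-1,-79,-48,13,-148,9,-94,-166],
    [-6,20,23,19,-1,4,24,1,-17,4,-19,16,166,104,122,-57,1,110,67,-19,205,-13,130,225],
    [3,-14,-16,-13,1,-2,-16,0,13,-2,13,-11,-117,-74,-86,40,-1,-78,-47,14,-145,9,-92,-155],
    [4,-7,-7,-6,-1,-2,-6,-2,3,-1,4,-5,-43,-27,-30,15,0,-30,-17,6,-54,3,-34,-57],
    [-2,1,1,1,1,1,0,1,1,1,0,1,1,0,0,-1,-1,1,0,-1,2,-1,1,3],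
    [2,-2,-2,-1,-1,-1,-1,-1,-1,0,0,-1,-10,-7,-5,2,-1,-9,-5,2,-12,-2,-9,-10],
    [0,1,1,0,0,0,0,0,0,-1,0,1,5,4,2,-1,1,4,2,-1,6,1,4,2],
    [0,-7,-7,-6,0,0,-7,0,6,0,7,-6,-57,-37,-42,20,-1,-38,-23,7,-71,4,-45,-73],
    [-1,-1,-1,-1,1,1,-1,0,2,0,2,-1,-8,-4,-7,3,1,-4,-2,1,-10,3,-5,-15],
    [1,-1,-1,-1,0,-1,-1,-1,0,0,0,-1,-1,0,0,1,1,0,0,1,-2,1,0,-3],
    [0,1,1,0,0,0,0,0,-1,0,0,0,6,5,4,-1,0,6,3,-2,8,0,6,4],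
    [0,2,2,2,0,0,1,0,-1,0,-2,2,11,6,8,-5,0,6,3,-2,14,-3,7,15],
    [0,1,1,0,0,0,1,0,0,0,0,1,9,7,5,-2,1,8,5,-1,11,2,8,7],
    [0,0,-1,0,0,0,-1,0,1,0,1,0,-9,-6,-6,2,-1,-7,-4,1,-11,0,-8,-10],
    [0,1,0,0,0,0,0,0,0,0,-1,0,2,2,1,-1,-1,2,1,0,3,0,2,3],
    [1,1,1,1,0,-1,1,0,-2,0,-2,1,12,8,10,-4,0,8,5,-2,16,-2,10,14],
    [-1,0,0,0,1,0,0,1,1,0,1,0,1,1,0,1,1,2,1,0,1,2,2,0],
    [1,0,0,0,-1,0,0,0,-1,-1,-1,0,-3,-3,-2,0,-1,-4,-3,0,-4,-2,-4,1],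
    [0,1,1,1,0,0,1,0,-1,0,-1,1,8,5,6,-3,0,5,3,-1,10,-1,6,11]]

/-- The product with the form. -/
def y7_3G : List (List ℤ) := [[3,35,61,-51,84,-51,69,-50,-17,0,-1,1,-26,-7,-2,2,6,3,-1,2,6,-1,2,4],
    [8,379,677,-591,955,-579,757,-525,-204,24,-22,1,-223,-60,-28,19,55,14,-19,16,41,-7,5,34],
    [8,584,1061,-920,1494,-912,1183,-818,-320,42,-37,-1,-336,-92,-46,28,82,22,-29,22,58,-9,3,51],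
    [-9,-534,-959,840,-1355,822,-1072,741,289,-36,31,0,308,83,40,-26,-76,-19,29,-21,-55,9,-4,-47],
    [13,827,1494,-1301,2109,-1284,1669,-1155,-451,58,-51,0,-479,-130,-65,40,118,31,-43,32,85,-13,6,73],
    [-5,-483,-875,763,-1236,755,-978,676,264,-35,30,2,276,76,39,-22,-68,-18,25,-18,-48,8,-2,-42],
    [10,699,1257,-1098,1777,-1083,1411,-978,-377,45,-41,-1,-407,-110,-55,33,99,27,-37,27,73,-14,7,62],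
    [-7,-504,-905,790,-1278,779,-1016,706,270,-31,29,1,295,80,39,-24,-71,-20,26,-20,-53,11,-6,-45],
    [-3,-158,-289,249,-407,248,-321,222,89,-13,11,-1,92,25,13,-8,-23,-6,8,-6,-16,1,-1,-14],
    [0,-18,-29,26,-41,25,-35,26,7,2,0,0,13,3,1,-1,-2,-1,1,-1,-3,2,-2,-2],
    [0,-1,-4,2,-6,4,-4,2,3,-2,2,-1,1,0,1,0,-1,0,0,0,0,-1,0,0],
    [2,13,23,-17,31,-19,26,-20,-7,0,-1,2,-13,-3,-1,1,3,2,0,1,3,0,2,2],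
    [-6,-274,-490,425,-687,419,-550,386,144,-13,13,0,170,45,20,-13,-39,-13,13,-13,-33,7,-6,-26],
    [0,-57,-102,90,-144,88,-115,80,30,-3,3,1,33,10,4,-2,-8,-2,3,-2,-6,1,-1,-5],
    [0,-11,-21,18,-30,19,-23,16,7,-2,1,0,6,2,2,0,-2,-1,1,-1,-1,0,0,-1],
    [1,20,36,-30,51,-31,41,-29,-11,1,-2,1,-13,-4,-2,2,3,1,-1,1,3,0,1,2],
    [2,60,105,-92,148,-89,118,-83,-32,3,-3,1,-39,-10,-4,3,10,3,-3,3,8,-1,2,6],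
    [0,20,35,-30,49,-30,40,-29,-10,0,-1,0,-13,-4,-1,1,3,2,-1,1,2,-1,1,2],
    [-1,-21,-37,32,-52,31,-41,29,11,-1,1,-1,13,3,1,-1,-3,-1,2,-1,-2,0,-1,-2],
    [1,23,43,-36,58,-35,45,-31,-13,2,-1,0,-13,-4,-1,1,3,1,-1,2,2,0,0,2],
    [2,69,122,-107,171,-104,138,-98,-35,2,-2,0,-45,-12,-5,3,10,4,-4,4,10,-2,2,7],
    [-1,-33,-54,50,-78,46,-62,43,16,-1,1,0,19,5,2,-2,-5,-1,2,-2,-4,2,-1,-3],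
    [1,30,53,-45,73,-45,59,-42,-15,1,-1,0,-20,-5,-2,1,4,1,-1,2,4,-1,2,3],
    [1,42,75,-65,105,-64,84,-59,-22,2,-2,0,-26,-7,-3,2,6,2,-2,2,5,-1,1,4]]

/-- The code. -/
def y7_4C : List ℕ := [9861410,13582719,10756496,13543298,1160758,13953759,1277607,2379723,12182885,4180155,3686920,7164456,7190403,7584008,8105718,15628275,15638268,5882675,11802467,9176387,10938135,9987475,1060852,7862004]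

/-- The matrix. -/
def y7_4M : List (List ℤ) := [[0,-1,0,0,0,-1,0,0,-1,0,0,1,3,1,3,0,0,1,1,0,3,-2,2,7],
    [19,-19,-9,-1,-9,-7,-9,-10,-19,-10,-14,0,-62,-64,-27,6,-13,-81,-43,19,-80,-46,-83,-3],
    [34,-32,-18,-4,-15,-12,-16,-17,-35,-20,-24,-2,-108,-107,-48,10,-24,-136,-71,32,-138,-75,-140,-13],
    [-28,27,14,2,12,10,14,15,29,15,21,0,88,91,38,-7,20,113,59,-27,112,66,117,9],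
    [46,-43,-23,-4,-21,-17,-22,-24,-48,-27,-33,-2,-143,-145,-62,13,-31,-184,-96,44,-183,-104,-190,-14],
    [-29,27,15,3,13,10,13,15,30,17,20,3,90,89,39,-9,18,114,59,-28,115,62,117,15],
    [39,-37,-19,-4,-18,-15,-18,-21,-40,-23,-27,-3,-115,-117,-49,12,-21,-151,-78,38,-149,-84,-154,-12],
    [-29,27,14,3,14,12,13,15,29,17,19,3,86,86,37,-10,14,112,59,-28,112,61,114,12],
    [-9,8,5,0,4,3,5,4,9,6,7,0,36,35,17,-3,9,44,24,-9,45,23,46,5],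
    [-1,1,0,1,1,1,0,1,0,0,0,1,-2,-2,-1,-1,-3,-1,-1,-1,-1,-1,-2,0],
    [0,0,0,-1,0,0,0,0,0,1,0,0,2,2,1,0,0,4,2,-1,3,1,4,-4],
    [0,0,0,1,0,-1,0,0,0,-1,0,0,1,0,1,0,1,-2,-1,1,0,-1,-1,6],
    [-13,13,6,0,6,6,6,7,13,7,7,0,39,41,16,-5,5,54,29,-13,52,31,53,4],
    [-4,4,2,1,2,2,2,2,3,2,2,1,13,11,6,-3,1,15,8,-4,17,7,15,6],
    [-2,1,1,0,1,1,1,1,2,1,1,1,6,5,2,-1,1,7,4,-1,7,3,7,4],
    [1,-1,0,0,-1,-1,-1,-1,-1,-1,-1,0,-3,-3,-1,0,0,-5,-3,1,-4,-3,-5,1],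
    [2,-2,-1,1,-1,-1,-1,-1,-2,-1,-1,1,-9,-10,-4,1,-2,-13,-7,3,-12,-7,-13,1],
    [1,-1,0,0,-1,-1,0,0,-1,-1,0,0,-2,-2,-1,1,1,-4,-2,1,-3,-2,-3,0],
    [-1,1,0,0,0,1,1,0,1,1,1,0,1,2,0,0,0,2,1,0,1,3,2,-1],
    [1,-1,0,0,0,0,-1,0,-1,0,-1,0,-4,-4,-2,0,-2,-4,-3,-1,-4,-4,-4,-1],
    [3,-3,-1,0,-1,-2,-2,-2,-3,-1,-1,0,-6,-7,-1,1,0,-9,-5,2,-8,-7,-8,-3],
    [-1,1,0,0,1,0,0,1,1,0,1,0,2,3,1,0,0,4,2,-1,3,2,4,-1],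
    [2,-2,-1,0,-1,-1,-1,-1,-1,-1,-1,-1,-8,-7,-4,2,0,-10,-6,2,-11,-4,-10,-2],
    [2,-2,-1,0,-1,-1,-1,-1,-2,-1,-1,0,-7,-7,-3,1,-1,-9,-5,2,-9,-5,-9,-2]]

/-- The inverse. -/
def y7_4I : List (List ℤ) := [[-1,1,0,0,0,1,0,0,1,0,0,-1,-3,-1,-3,0,0,-1,-1,0,-3,2,-2,-7],
    [-19,18,9,1,9,7,9,10,19,10,14,0,62,64,27,-6,13,81,43,-19,80,46,83,3],
    [-34,32,17,4,15,12,16,17,35,20,24,2,108,107,48,-10,24,136,71,-32,138,75,140,13],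
    [28,-27,-14,-3,-12,-10,-14,-15,-29,-15,-21,0,-88,-91,-38,7,-20,-113,-59,27,-112,-66,-117,-9],
    [-46,43,23,4,20,17,22,24,48,27,33,2,143,145,62,-13,31,184,96,-44,183,104,190,14],
    [29,-27,-15,-3,-13,-11,-13,-15,-30,-17,-20,-3,-90,-89,-39,9,-18,-114,-59,28,-115,-62,-117,-15],
    [-39,37,19,4,18,15,17,21,40,23,27,3,115,117,49,-12,21,151,78,-38,149,84,154,12],
    [29,-27,-14,-3,-14,-12,-13,-16,-29,-17,-19,-3,-86,-86,-37,10,-14,-112,-59,28,-112,-61,-114,-12],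
    [9,-8,-5,0,-4,-3,-5,-4,-10,-6,-7,0,-36,-35,-17,3,-9,-44,-24,9,-45,-23,-46,-5],
    [1,-1,0,-1,-1,-1,0,-1,0,-1,0,-1,2,2,1,1,3,1,1,1,1,1,2,0],
    [0,0,0,1,0,0,0,0,0,-1,-1,0,-2,-2,-1,0,0,-4,-2,1,-3,-1,-4,4],
    [0,0,0,-1,0,1,0,0,0,1,0,-1,-1,0,-1,0,-1,2,1,-1,0,1,1,-6],
    [13,-13,-6,0,-6,-6,-6,-7,-13,-7,-7,0,-40,-41,-16,5,-5,-54,-29,13,-52,-31,-53,-4],
    [4,-4,-2,-1,-2,-2,-2,-2,-3,-2,-2,-1,-13,-12,-6,3,-1,-15,-8,4,-17,-7,-15,-6],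
    [2,-1,-1,0,-1,-1,-1,-1,-2,-1,-1,-1,-6,-5,-3,1,-1,-7,-4,1,-7,-3,-7,-4],
    [-1,1,0,0,1,1,1,1,1,1,1,0,3,3,1,-1,0,5,3,-1,4,3,5,-1],
    [-2,2,1,-1,1,1,1,1,2,1,1,-1,9,10,4,-1,1,13,7,-3,12,7,13,-1],
    [-1,1,0,0,1,1,0,0,1,1,0,0,2,2,1,-1,-1,3,2,-1,3,2,3,0],
    [1,-1,0,0,0,-1,-1,0,-1,-1,-1,0,-1,-2,0,0,0,-2,-2,0,-1,-3,-2,1],
    [-1,1,0,0,0,0,1,0,1,0,1,0,4,4,2,0,2,4,3,0,4,4,4,1],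
    [-3,3,1,0,1,2,2,2,3,1,1,0,6,7,1,-1,0,9,5,-2,7,7,8,3],
    [1,-1,0,0,-1,0,0,-1,-1,0,-1,0,-2,-3,-1,0,0,-4,-2,1,-3,-3,-4,1],
    [-2,2,1,0,1,1,1,1,1,1,1,1,8,7,4,-2,0,10,6,-2,11,4,9,2],
    [-2,2,1,0,1,1,1,1,2,1,1,0,7,7,3,-1,1,9,5,-2,9,5,9,1]]

/-- The product with the form. -/
def y7_4G : List (List ℤ) := [[-3,-39,-65,57,-91,54,-74,52,19,-1,2,-1,27,6,2,-1,-7,-2,2,-2,-6,1,-2,-4],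
    [-4,-379,-647,587,-916,556,-748,514,184,-11,16,4,224,51,17,-7,-51,-4,29,-6,-38,10,-17,-33],
    [-4,-614,-1061,956,-1495,911,-1217,834,301,-23,28,9,353,83,28,-11,-79,-5,47,-10,-56,14,-25,-52],
    [3,538,923,-840,1306,-794,1067,-731,-260,16,-21,-9,-312,-71,-23,9,69,3,-43,7,51,-14,23,46],
    [-6,-866,-1493,1350,-2109,1284,-1720,1179,423,-30,38,12,502,116,40,-15,-112,-7,68,-13,-81,21,-37,-74],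
    [2,506,876,-791,1236,-755,1008,-691,-247,18,-22,-8,-291,-68,-24,8,64,4,-40,7,46,-12,21,43],
    [-5,-708,-1223,1103,-1726,1053,-1411,969,344,-22,30,10,414,95,33,-12,-90,-7,55,-10,-67,18,-31,-61],
    [5,515,889,-800,1254,-764,1025,-706,-250,15,-22,-6,-305,-70,-24,10,66,6,-39,8,51,-13,23,45],
    [1,178,308,-278,435,-265,354,-242,-89,8,-9,-2,-102,-24,-9,3,24,2,-14,3,16,-4,7,15],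
    [1,5,10,-6,13,-8,12,-10,-2,-2,0,1,-7,-1,0,1,0,1,0,0,2,0,1,1],
    [-1,7,13,-12,19,-12,15,-9,-5,2,-2,0,-1,-1,-1,0,1,0,-1,0,-1,0,0,0],
    [-2,-18,-31,26,-43,25,-35,25,10,-1,2,-2,14,3,1,-1,-4,-2,1,-1,-3,0,-1,-2],
    [5,273,473,-421,664,-404,543,-376,-134,7,-13,-1,-170,-38,-13,6,37,6,-19,6,31,-6,12,25],
    [1,66,111,-102,158,-96,130,-90,-31,1,-2,-1,-40,-10,-3,1,9,1,-5,1,8,-2,3,6],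
    [0,22,39,-35,55,-34,45,-31,-11,1,-1,0,-13,-3,-2,0,3,1,-2,1,2,-1,1,2],
    [-2,-32,-53,47,-76,45,-62,43,16,-1,2,-1,20,5,2,-2,-5,-1,2,-1,-4,1,-2,-3],
    [-1,-64,-108,99,-154,93,-127,88,31,-1,3,0,41,9,3,-1,-10,-2,5,-1,-8,2,-3,-6],
    [-1,-30,-52,46,-73,44,-60,43,14,0,1,0,20,5,1,-1,-4,-2,2,-1,-4,1,-1,-3],
    [0,11,19,-18,27,-16,23,-16,-5,0,0,0,-7,-1,0,0,1,0,-2,0,1,0,1,1],
    [-1,-33,-55,50,-77,46,-62,43,16,-1,1,0,20,5,1,-1,-5,-1,2,-2,-4,1,-1,-3],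
    [-2,-72,-124,111,-175,106,-144,100,35,-1,3,0,47,10,4,-2,-10,-2,5,-2,-10,2,-3,-7],
    [1,30,49,-45,70,-42,58,-41,-13,-1,0,0,-20,-4,-1,1,4,1,-2,1,4,-2,2,3],
    [-1,-18,-31,26,-42,26,-35,25,9,0,1,-1,14,3,1,0,-3,-1,1,-1,-3,0,-2,-2],
    [-1,-43,-74,66,-104,63,-85,59,21,-1,2,0,27,6,2,-1,-6,-1,3,-1,-5,1,-2,-4]]

end CfsgLib.CoOneLocal
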