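import Cfsg.Agent.Lib.CoOneLocal.Elements
import Cfsg.Agent.Lib.CoOneLocal.DataSeven

/-!
# Checks of the elements for the prime 7
-/

set_option autoImplicit false
set_option maxRecDepth 100000

namespace CfsgLib.CoOneLocal

open CfsgLib.Rigid CfsgLib.Rigid.Co1

theorem x7_ok : elB gram x7M x7I x7G x7C = true := by decide +kernel

theorem y7_0_ok : elB gram y7_0M y7_0I y7_0G y7_0C = true := by decide +kernel

theorem y7_1_ok : elB gram y7_1M y7_1I y7_1G y7_1C = true := by decide +kernel

theorem y7_2_ok : elB gram y7_2M y7_2I y7_2G y7_2C = true := by decide +kernel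

theorem y7_3_ok : elB gram y7_3M y7_3I y7_3G y7_3C = true := by decide +kernel

theorem y7_4_ok : elB gram y7_4M y7_4I y7_4G y7_4C = true := by decide +kernel


/-- The generators of the alternating group. -/
def ys7 : List (List ℕ) := [y7_0C, y7_1C, y7_2C, y7_3C, y7_4C]

/-- The relations. -/
noncomputable def rels7 : Bool :=
  eqL (prodC (List.replicate 7 x7C)) one && !(eqL x7C one) && !(eqL (ys7.getD 0 []) one) &&
  (List.range 5).all (fun i => eqL (prodC (List.replicate 3 (ys7.getD i []))) one &&
    eqL (prodC [x7C, ys7.getD i []]) (prodC [ys7.getD i [], x7C]) &&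
    (List.range 5).all fun j => Nat.beq i j ||
      eqL (prodC [ys7.getD i [], ys7.getD j [], ys7.getD i [], ys7.getD j []]) one)

theorem rels7_ok : rels7 = true := by decide +kernel

end CfsgLib.CoOneLocal
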