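import Mathlib

/-!
# Lattice automorphisms for the local subgroup at the prime 3
-/

set_option autoImplicit false
set_option maxRecDepth 20000

namespace CfsgLib.CoOneLocal

/-- The code. -/
def x3C : List ℕ := [11287414,8270093,8537805,4826538,10507058,6868195,13744974,15475687,12372013,3495927,3338832,1269201,7222518,10282366,5634549,3744412,2693303,8144906,154027,7224182,12523743,13334657,179670,7787902]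

/-- The matrix. -/
def x3M : List (List ℤ) := [[-2,1,1,2,1,1,1,2,1,1,2,1,-1,-1,0,0,0,0,-1,-1,0,-1,0,-1],
    [-19,12,9,29,10,10,10,20,7,0,8,18,-23,-35,-8,-12,-4,-43,-25,-3,-21,-27,-45,36],
    [-33,22,19,49,20,20,19,33,12,1,13,32,-8,-36,3,-28,-4,-45,-24,-10,2,-40,-46,81],
    [28,-19,-14,-43,-14,-17,-14,-29,-11,0,-11,-28,42,59,20,19,9,72,42,5,40,42,77,-46],
    [-44,29,24,68,25,27,24,46,17,-1,16,44,-41,-74,-15,-34,-10,-92,-52,-10,-34,-63,-96,97],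
    [27,-17,-16,-42,-16,-17,-15,-27,-10,0,-9,-27,16,40,3,23,4,50,28,7,10,39,51,-66],
    [-36,23,19,57,20,22,19,36,13,-1,12,37,-39,-67,-14,-29,-9,-84,-48,-6,-35,-56,-87,79],
    [25,-15,-13,-40,-14,-15,-13,-25,-9,1,-8,-26,30,49,10,20,6,62,35,3,28,41,63,-53],
    [9,-6,-5,-13,-6,-5,-6,-10,-4,0,-4,-9,-2,6,-3,7,0,8,3,3,-5,9,8,-27],
    [-1,1,1,0,1,1,1,1,1,1,1,0,7,6,3,0,1,8,5,-2,9,3,8,4],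
    [0,0,0,0,-1,0,-1,0,0,1,0,0,-9,-7,-5,1,-2,-7,-6,0,-9,-3,-8,-12],
    [-1,0,0,0,1,0,1,1,1,0,1,1,5,4,3,0,1,5,4,0,5,2,6,6],
    [14,-7,-7,-20,-7,-7,-7,-13,-6,0,-7,-14,15,23,4,8,0,29,17,1,14,19,29,-18],
    [2,-1,-1,-5,-1,-1,-1,-2,-1,0,-1,-2,8,9,3,1,0,12,7,-1,9,6,12,-1],
    [1,0,-1,-2,-1,-1,-1,-1,-1,0,0,-1,-1,1,-1,1,-1,2,1,0,-1,2,1,-6],
    [0,0,-1,1,1,0,0,1,0,-1,0,0,-4,-3,-2,0,-1,-4,-2,1,-5,-1,-4,0],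
    [-3,1,1,4,1,1,2,3,2,0,2,3,-5,-6,-2,0,1,-8,-4,1,-6,-3,-8,4],
    [0,-1,0,1,0,0,0,0,0,0,0,1,-4,-4,-1,0,0,-6,-3,1,-5,-3,-5,0],
    [1,-1,0,-1,0,-1,0,-1,-1,0,0,-1,7,6,5,0,2,7,4,0,8,2,8,2],
    [-2,1,1,2,1,1,1,2,1,1,2,1,-1,-1,0,0,0,-1,-1,-1,0,-1,-1,0],
    [-3,1,1,5,1,2,1,3,2,0,2,3,-15,-14,-8,0,-1,-17,-11,1,-17,-7,-18,-7],
    [1,0,0,-2,0,0,0,-1,0,0,0,-1,7,7,3,0,1,9,6,-1,8,4,9,-1],
    [-2,1,1,2,1,0,1,1,1,0,1,1,5,3,4,-1,2,3,2,0,6,0,4,6],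
    [-2,1,1,3,1,1,1,2,1,0,1,2,-3,-4,-1,-1,0,-5,-3,0,-3,-3,-5,2]]

/-- The inverse. -/
def x3I : List (List ℤ) := [[2,-1,-1,-1,-1,1,-1,-1,-1,-1,-1,-1,-10,-8,-8,1,-2,-10,-5,1,-13,-2,-11,-6],
    [13,-7,-8,-9,-8,11,-17,-19,-8,-7,-7,-6,-97,-73,-76,6,-19,-99,-45,9,-112,-22,-97,-116],
    [20,-13,-13,-13,-11,18,-30,-31,-11,-12,-10,-8,-168,-128,-128,11,-30,-171,-78,16,-192,-40,-168,-208],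
    [-19,11,12,13,12,-15,26,28,12,12,10,9,147,110,114,-10,27,150,69,-15,169,34,147,179],
    [28,-17,-18,-19,-17,25,-41,-43,-17,-16,-14,-12,-233,-176,-179,16,-43,-236,-108,21,-265,-55,-232,-291],
    [-16,10,10,11,9,-15,25,25,10,10,7,6,137,104,105,-9,25,138,63,-11,154,33,135,180],
    [23,-13,-14,-15,-13,21,-33,-35,-14,-14,-10,-10,-185,-139,-144,12,-33,-187,-85,16,-209,-42,-183,-243],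
    [-18,10,11,11,10,-15,24,25,10,10,8,8,141,106,108,-10,25,141,66,-12,160,32,139,181],
    [-5,3,3,4,3,-5,8,9,3,2,3,2,40,30,31,-2,8,41,17,-3,45,10,40,52],
    [-1,0,1,0,0,0,0,0,0,1,0,1,4,2,3,-1,0,3,2,-1,5,-1,3,6],
    [2,-1,-1,-1,-1,-1,0,0,-1,-2,-1,-1,-3,-2,-2,1,0,-3,-2,2,-5,0,-3,-1],
    [0,0,0,0,0,1,0,0,0,1,0,0,-3,-2,-2,0,-1,-2,-1,-1,-3,-1,-3,-2],
    [-12,6,6,6,6,-7,13,13,6,6,5,7,77,57,58,-7,12,76,38,-6,89,18,76,94],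
    [-3,1,2,2,2,-1,3,3,1,2,1,1,19,14,15,-2,3,19,9,-2,23,3,19,22],
    [-1,1,0,1,0,0,1,1,1,0,0,0,0,0,0,0,0,0,-1,1,-1,1,-1,6],
    [0,0,-1,0,0,1,0,-1,0,1,0,0,-4,-3,-3,0,-1,-4,-1,1,-5,0,-4,-4],
    [3,-1,-1,-2,-2,1,-3,-3,-2,-1,-2,-2,-14,-10,-11,1,-3,-14,-7,0,-16,-4,-14,-15],
    [2,-1,-1,0,-1,0,-1,-1,-1,-1,-1,-1,-10,-8,-6,1,-1,-11,-6,1,-12,-3,-11,-8],
    [0,0,0,0,0,-1,0,0,0,0,0,0,3,2,3,0,1,3,1,0,3,1,3,3],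
    [2,-2,-1,-1,-1,0,-1,-2,-1,-1,-1,-1,-6,-5,-4,1,0,-8,-3,2,-9,-2,-7,-2],
    [4,-2,-2,-2,-2,1,-3,-3,-2,-2,-1,-3,-20,-14,-15,3,-2,-19,-10,2,-24,-4,-19,-25],
    [-2,1,1,1,1,0,1,2,2,1,1,1,4,3,3,0,1,5,2,-1,5,1,4,5],
    [1,0,0,-1,0,1,-1,-1,0,0,0,0,-2,-1,-3,0,-1,-1,0,-1,-2,0,-1,-6],
    [2,-1,-1,-1,-1,1,-2,-2,-1,-1,-1,-1,-12,-9,-9,1,-2,-12,-6,1,-14,-3,-12,-14]]

/-- The product with the form. -/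
def x3G : List (List ℤ) := [[2,-8,-16,17,-24,15,-18,11,5,-2,1,2,0,1,1,0,0,1,1,0,0,0,2,0],
    [21,-21,-68,84,-104,73,-91,60,12,-6,-2,18,-17,5,5,2,14,-1,20,0,7,1,8,3],
    [34,-66,-161,184,-241,164,-209,143,33,-8,-4,29,-3,16,9,2,17,-5,35,-2,5,3,10,1],
    [-31,30,98,-121,150,-106,134,-90,-16,6,4,-26,22,-8,-6,-2,-21,3,-30,0,-10,-2,-10,-4],
    [49,-74,-198,232,-297,205,-258,174,39,-13,-6,42,-20,18,11,4,28,-5,48,-2,12,3,16,4],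
    [-28,53,132,-150,196,-134,170,-116,-27,7,4,-24,3,-12,-7,-2,-15,4,-29,2,-5,-2,-8,-1],
    [38,-73,-185,208,-274,186,-235,158,39,-12,-4,34,-8,16,10,2,21,-4,39,-2,8,2,13,2],
    [-26,54,134,-151,200,-135,171,-115,-29,9,3,-24,4,-12,-8,-1,-14,3,-28,1,-4,-1,-10,-1],
    [-11,14,40,-46,58,-41,50,-34,-8,3,1,-9,5,-4,-2,-2,-6,1,-10,1,-3,0,-3,-1],
    [2,9,14,-12,21,-11,16,-11,-5,1,-1,1,-6,-1,-1,2,2,0,0,0,2,0,0,1],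
    [-1,4,8,-8,10,-7,8,-5,-2,1,0,-1,-1,-1,0,-1,0,0,-1,1,0,0,0,0],
    [0,-14,-25,23,-35,21,-27,18,8,-2,1,1,7,2,1,0,-2,0,1,-1,-2,0,1,-1],
    [-12,33,77,-84,115,-76,95,-63,-19,7,0,-13,0,-7,-6,0,-6,0,-13,1,0,0,-6,0],
    [-3,7,15,-19,24,-15,20,-13,-4,1,0,-2,0,-1,-1,0,-1,0,-4,0,0,0,-1,0],
    [-2,-7,-8,8,-13,6,-11,8,2,1,0,-1,6,1,0,-1,-2,0,0,0,-2,1,-1,-1],
    [1,-4,-8,9,-11,7,-9,6,2,-1,0,1,0,1,0,0,0,0,1,0,0,0,1,0],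
    [4,-2,-9,12,-14,10,-11,6,2,-2,0,4,-6,0,1,1,3,1,3,0,2,0,2,1],
    [0,-24,-41,38,-59,36,-48,33,12,-1,1,1,13,4,2,-1,-3,-1,2,-1,-3,1,0,-2],
    [0,13,26,-22,36,-22,29,-20,-8,1,-1,0,-7,-2,-1,1,1,1,-2,1,1,0,0,1],
    [1,-1,-3,3,-5,4,-5,4,1,0,1,0,0,1,1,0,0,-1,1,0,0,0,0,0],
    [3,3,0,3,-1,2,0,-1,0,-2,0,3,-7,0,1,0,3,1,2,0,1,-1,2,1],
    [-1,-6,-8,7,-11,6,-8,6,3,0,0,-1,6,1,0,0,-2,0,0,-1,-2,0,-1,-1],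
    [0,-2,-7,6,-10,6,-7,4,3,-2,1,0,0,0,1,0,0,0,1,0,0,-1,1,0],
    [2,-5,-12,13,-18,12,-15,10,3,-1,0,2,0,1,1,0,1,0,2,0,0,0,1,0]]

/-- The code. -/
def t3C : List ℕ := [13710164,1358127,411054,11732096,3468624,13883880,9738245,1386662,4261159,11942068,2454096,1559227,14915518,5284662,14932927,12004287,6465238,14875688,154027,3694198,15965119,2513323,1492636,6668820]

/-- The matrix. -/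
def t3M : List (List ℤ) := [[-2,2,1,2,1,2,1,2,1,1,0,2,-1,-3,-2,-2,-3,-2,-2,-2,-1,-2,-3,7],
    [-19,19,9,17,10,17,0,20,19,10,2,17,-47,-47,-42,-7,-26,-44,-39,-20,-45,-22,-52,10],
    [-34,31,19,31,20,29,2,33,33,20,5,30,-52,-60,-51,-16,-36,-51,-51,-36,-42,-36,-60,32],
    [28,-28,-14,-26,-14,-24,0,-29,-28,-14,-3,-24,68,68,60,10,35,65,58,28,65,33,76,-15],
    [-46,44,24,42,25,40,1,46,45,26,5,41,-94,-99,-85,-19,-56,-90,-83,-48,-85,-53,-106,34],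
    [28,-26,-16,-25,-16,-25,-1,-27,-27,-16,-4,-25,47,52,45,13,31,45,44,30,39,30,53,-21],
    [-37,36,19,34,20,34,0,36,36,20,4,35,-83,-86,-74,-17,-48,-80,-71,-38,-77,-44,-94,19],
    [26,-25,-13,-24,-14,-25,0,-25,-26,-14,-2,-25,64,65,56,12,35,62,53,26,61,32,72,-8],
    [9,-9,-5,-8,-6,-7,0,-10,-9,-6,-1,-8,12,14,12,4,11,10,12,12,8,10,13,-12],
    [0,0,1,0,1,-1,0,1,0,0,0,-1,9,7,6,0,2,9,5,-2,11,1,10,9],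
    [0,0,0,0,-1,0,1,0,0,-1,0,0,-1,-1,-1,0,1,-2,-1,2,-2,1,-2,-2],
    [-1,1,0,1,1,1,0,1,0,1,0,1,-2,-2,-1,-1,-3,-1,-1,-2,-1,-2,-2,0],
    [14,-13,-7,-13,-7,-13,0,-13,-13,-7,-1,-14,35,36,30,7,19,35,30,14,34,19,41,-3],
    [2,-3,-1,-2,-1,-3,0,-2,-3,-1,0,-2,8,7,8,1,4,8,6,2,9,2,9,0],
    [1,-1,-1,-1,-1,-1,0,-1,-1,-1,0,-1,-1,0,-1,1,1,-1,0,2,-2,1,-1,-3],
    [-1,1,-1,1,1,1,0,1,1,1,0,1,-6,-5,-4,0,-3,-5,-3,0,-7,-1,-6,-1],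
    [-2,3,1,2,1,2,-1,3,2,1,-1,2,-10,-9,-8,-1,-6,-9,-8,-4,-10,-5,-11,2],
    [0,0,0,1,0,1,0,0,0,0,-1,1,-5,-5,-3,-1,-2,-7,-4,0,-6,-3,-7,1],
    [1,-1,0,-1,0,-1,0,-1,-1,0,0,-1,7,6,5,0,2,7,4,0,8,2,8,2],
    [-2,1,1,2,1,1,1,2,2,1,1,1,-1,-2,-1,0,0,-2,-2,-1,-1,-1,-2,4],
    [-3,3,1,3,1,3,0,3,3,1,0,3,-13,-12,-10,-1,-5,-13,-10,-2,-15,-5,-15,-1],
    [1,-1,0,-1,0,-1,0,-1,-1,0,0,-1,7,6,5,0,2,7,5,0,8,1,8,2],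
    [-2,2,1,1,1,2,0,1,2,1,1,2,-2,-2,-3,-1,-2,-1,-1,-2,-1,0,-2,-4],
    [-2,2,1,2,1,2,0,2,2,1,0,2,-6,-6,-5,-1,-3,-6,-5,-2,-6,-3,-7,0]]

/-- The inverse. -/
def t3I : List (List ℤ) := [[-2,2,1,2,1,2,1,2,1,1,0,2,-1,-3,-2,-2,-3,-2,-2,-2,-1,-2,-3,7],
    [-19,19,9,17,10,17,0,20,19,10,2,17,-47,-47,-42,-7,-26,-44,-39,-20,-45,-22,-52,10],
    [-34,31,19,31,20,29,2,33,33,20,5,30,-52,-60,-51,-16,-36,-51,-51,-36,-42,-36,-60,32],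
    [28,-28,-14,-26,-14,-24,0,-29,-28,-14,-3,-24,68,68,60,10,35,65,58,28,65,33,76,-15],
    [-46,44,24,42,25,40,1,46,45,26,5,41,-94,-99,-85,-19,-56,-90,-83,-48,-85,-53,-106,34],
    [28,-26,-16,-25,-16,-25,-1,-27,-27,-16,-4,-25,47,52,45,13,31,45,44,30,39,30,53,-21],
    [-37,36,19,34,20,34,0,36,36,20,4,35,-83,-86,-74,-17,-48,-80,-71,-38,-77,-44,-94,19],
    [26,-25,-13,-24,-14,-25,0,-25,-26,-14,-2,-25,64,65,56,12,35,62,53,26,61,32,72,-8],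
    [9,-9,-5,-8,-6,-7,0,-10,-9,-6,-1,-8,12,14,12,4,11,10,12,12,8,10,13,-12],
    [0,0,1,0,1,-1,0,1,0,0,0,-1,9,7,6,0,2,9,5,-2,11,1,10,9],
    [0,0,0,0,-1,0,1,0,0,-1,0,0,-1,-1,-1,0,1,-2,-1,2,-2,1,-2,-2],
    [-1,1,0,1,1,1,0,1,0,1,0,1,-2,-2,-1,-1,-3,-1,-1,-2,-1,-2,-2,0],
    [14,-13,-7,-13,-7,-13,0,-13,-13,-7,-1,-14,35,36,30,7,19,35,30,14,34,19,41,-3],
    [2,-3,-1,-2,-1,-3,0,-2,-3,-1,0,-2,8,7,8,1,4,8,6,2,9,2,9,0],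
    [1,-1,-1,-1,-1,-1,0,-1,-1,-1,0,-1,-1,0,-1,1,1,-1,0,2,-2,1,-1,-3],
    [-1,1,-1,1,1,1,0,1,1,1,0,1,-6,-5,-4,0,-3,-5,-3,0,-7,-1,-6,-1],
    [-2,3,1,2,1,2,-1,3,2,1,-1,2,-10,-9,-8,-1,-6,-9,-8,-4,-10,-5,-11,2],
    [0,0,0,1,0,1,0,0,0,0,-1,1,-5,-5,-3,-1,-2,-7,-4,0,-6,-3,-7,1],
    [1,-1,0,-1,0,-1,0,-1,-1,0,0,-1,7,6,5,0,2,7,4,0,8,2,8,2],
    [-2,1,1,2,1,1,1,2,2,1,1,1,-1,-2,-1,0,0,-2,-2,-1,-1,-1,-2,4],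
    [-3,3,1,3,1,3,0,3,3,1,0,3,-13,-12,-10,-1,-5,-13,-10,-2,-15,-5,-15,-1],
    [1,-1,0,-1,0,-1,0,-1,-1,0,0,-1,7,6,5,0,2,7,5,0,8,1,8,2],
    [-2,2,1,1,1,2,0,1,2,1,1,2,-2,-2,-3,-1,-2,-1,-1,-2,-1,0,-2,-4],
    [-2,2,1,2,1,2,0,2,2,1,0,2,-6,-6,-5,-1,-3,-6,-5,-2,-6,-3,-7,0]]

/-- The product with the form. -/
def t3G : List (List ℤ) := [[0,3,5,-4,8,-5,6,-3,-2,1,-1,0,1,0,-1,0,0,-1,0,-1,-1,0,0,0],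
    [3,-244,-461,397,-628,393,-522,366,127,-2,4,12,150,42,11,-10,-22,-19,13,-19,-28,13,2,-21],
    [5,-461,-858,747,-1176,733,-975,682,238,-4,8,21,282,78,21,-18,-44,-32,26,-33,-54,23,2,-40],
    [-4,397,747,-646,1023,-638,848,-593,-207,5,-8,-18,-241,-67,-19,17,36,28,-22,28,45,-20,-3,34],
    [8,-628,-1176,1023,-1612,1007,-1338,935,325,-6,10,31,382,107,30,-24,-58,-44,36,-45,-73,32,4,-54],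
    [-5,393,733,-638,1007,-630,836,-584,-203,4,-7,-19,-239,-67,-20,15,37,27,-22,27,46,-20,-2,34],
    [6,-522,-975,848,-1338,836,-1110,775,270,-6,9,26,317,89,26,-21,-49,-36,29,-37,-61,27,3,-45],
    [-3,366,682,-593,935,-584,775,-542,-189,4,-5,-18,-224,-63,-18,15,35,26,-20,27,44,-19,-2,32],
    [-2,127,238,-207,325,-203,270,-189,-66,1,-2,-6,-78,-22,-6,4,12,9,-8,10,15,-6,0,11],
    [1,-2,-4,5,-6,4,-6,4,1,0,0,0,1,0,0,1,0,0,1,0,0,0,0,0],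
    [-1,4,8,-8,10,-7,9,-5,-2,0,0,-1,-1,-1,0,-1,0,0,-1,1,0,0,0,0],
    [0,12,21,-18,31,-19,26,-18,-6,0,-1,0,-7,-1,-1,1,1,0,0,-1,1,-1,0,1],
    [1,150,282,-241,382,-239,317,-224,-78,1,-1,-7,-98,-28,-7,7,15,13,-7,14,21,-7,0,14],
    [0,42,78,-67,107,-67,89,-63,-22,0,-1,-1,-28,-8,-2,2,5,4,-2,3,6,-2,0,4],
    [-1,11,21,-19,30,-20,26,-18,-6,0,0,-1,-7,-2,-2,0,1,1,-1,1,2,-1,0,1],
    [0,-10,-18,17,-24,15,-21,15,4,1,-1,1,7,2,0,0,-1,-1,1,-1,-2,1,0,-1],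
    [0,-22,-44,36,-58,37,-49,35,12,0,0,1,15,5,1,-1,-2,-3,1,-3,-3,1,0,-2],
    [-1,-19,-32,28,-44,27,-36,26,9,0,0,0,13,4,1,-1,-3,-2,1,-2,-3,1,-1,-2],
    [0,13,26,-22,36,-22,29,-20,-8,1,-1,0,-7,-2,-1,1,1,1,-2,1,1,0,0,1],
    [-1,-19,-33,28,-45,27,-37,27,10,0,1,-1,14,3,1,-1,-3,-2,1,-2,-3,1,-1,-2],
    [-1,-28,-54,45,-73,46,-61,44,15,0,0,1,21,6,2,-2,-3,-3,1,-3,-6,1,0,-3],
    [0,13,23,-20,32,-20,27,-19,-6,0,0,-1,-7,-2,-1,1,1,1,0,1,1,-2,0,1],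
    [0,2,2,-3,4,-2,3,-2,0,0,0,0,0,0,0,0,0,-1,0,-1,0,0,0,0],
    [0,-21,-40,34,-54,34,-45,32,11,0,0,1,14,4,1,-1,-2,-2,1,-2,-3,1,0,-2]]

/-- The code. -/
def y3_0C : List ℕ := [4520441,10305011,7305714,8672260,16356687,6431775,526988,5890240,135407,655872,2441344,3177092,8620862,11855730,8109438,1986560,9551742,8437118,7297854,8437630,9027454,16383358,4308862,5832704]

/-- The matrix. -/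
def y3_0M : List (List ℤ) := [[1,0,0,-1,-1,-1,-1,1,-1,0,0,-1,-5,-3,-3,1,-2,-2,-3,-2,-4,-2,-3,-8],
    [37,-19,-20,-20,-19,-19,-19,1,-19,-22,-21,-17,-135,-97,-78,18,-31,-116,-75,13,-165,-38,-126,-87],
    [62,-31,-34,-34,-31,-31,-33,1,-31,-36,-36,-29,-227,-163,-131,30,-53,-195,-125,21,-278,-63,-209,-146],
    [-56,28,31,30,28,28,28,0,28,34,33,26,199,142,115,-26,46,172,109,-22,246,54,186,125],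
    [87,-43,-47,-47,-44,-44,-45,2,-43,-52,-51,-40,-315,-226,-182,41,-73,-272,-174,31,-387,-87,-293,-199],
    [-53,27,29,29,27,26,28,0,26,32,31,24,196,141,114,-26,44,171,108,-20,242,53,183,124],
    [72,-36,-39,-39,-36,-36,-38,1,-36,-43,-42,-33,-262,-188,-152,34,-60,-226,-144,25,-322,-72,-244,-168],
    [-52,26,28,28,26,26,27,-1,26,30,30,24,188,135,109,-25,43,162,104,-17,231,52,175,120],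
    [-17,9,9,9,8,9,9,-1,8,10,10,8,61,44,34,-8,14,53,34,-6,74,18,56,38],
    [0,0,0,0,0,0,0,0,0,-1,0,0,0,0,0,0,0,-1,0,1,0,0,0,0],
    [0,0,0,0,0,0,0,-1,0,0,0,0,2,2,1,0,1,2,1,0,2,1,2,-2],
    [0,0,1,0,0,0,0,1,0,1,0,-1,1,1,1,0,0,2,0,-2,3,-1,2,0],
    [-26,13,13,13,13,13,14,0,13,13,14,13,94,68,54,-13,21,81,54,-6,114,28,88,63],
    [-6,3,4,4,3,3,3,0,3,3,3,2,22,15,13,-3,6,18,11,-2,27,5,20,15],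
    [-2,1,1,1,1,1,1,0,1,2,1,1,7,5,4,-1,1,7,4,-1,9,1,7,4],
    [0,0,0,0,0,0,0,2,0,0,0,0,-5,-4,-3,0,-2,-3,-3,-1,-5,-2,-4,-2],
    [6,-3,-3,-3,-3,-3,-3,0,-3,-3,-3,-3,-21,-15,-12,3,-5,-18,-12,2,-25,-6,-20,-15],
    [2,-1,-1,-1,-1,-1,-1,0,-1,0,-1,-1,-7,-5,-4,1,-2,-6,-4,0,-8,-2,-6,-5],
    [-2,1,1,1,1,1,0,0,1,1,2,1,3,2,1,0,1,3,1,-1,4,1,3,0],
    [2,-1,-1,-1,-1,-1,-1,0,-1,-1,-1,-1,-7,-5,-4,1,-2,-6,-4,0,-8,-2,-6,-5],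
    [6,-3,-3,-3,-3,-3,-3,0,-3,-3,-3,-3,-21,-15,-12,3,-5,-18,-12,1,-26,-6,-20,-13],
    [-2,1,1,1,1,1,1,0,1,2,1,1,7,5,5,-1,1,6,4,-1,9,1,7,5],
    [2,-1,-1,-1,-1,-1,-1,0,-1,-1,-1,-1,-7,-5,-4,1,-1,-6,-4,0,-8,-2,-7,-6],
    [4,-2,-2,-2,-2,-2,-2,0,-2,-2,-2,-2,-14,-10,-8,2,-3,-12,-8,1,-17,-4,-13,-10]]

/-- The inverse. -/
def y3_0I : List (List ℤ) := [[-2,0,0,1,1,1,1,-1,1,0,0,1,5,3,3,-1,2,2,3,2,4,2,3,8],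
    [-37,18,20,20,19,19,19,-1,19,22,21,17,135,97,78,-18,31,116,75,-13,165,38,126,87],
    [-62,31,33,34,31,31,33,-1,31,36,36,29,227,163,131,-30,53,195,125,-21,278,63,209,146],
    [56,-28,-31,-31,-28,-28,-28,0,-28,-34,-33,-26,-199,-142,-115,26,-46,-172,-109,22,-246,-54,-186,-125],
    [-87,43,47,47,43,44,45,-2,43,52,51,40,315,226,182,-41,73,272,174,-31,387,87,293,199],
    [53,-27,-29,-29,-27,-27,-28,0,-26,-32,-31,-24,-196,-141,-114,26,-44,-171,-108,20,-242,-53,-183,-124],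
    [-72,36,39,39,36,36,37,-1,36,43,42,33,262,188,152,-34,60,226,144,-25,322,72,244,168],
    [52,-26,-28,-28,-26,-26,-27,0,-26,-30,-30,-24,-188,-135,-109,25,-43,-162,-104,17,-231,-52,-175,-120],
    [17,-9,-9,-9,-8,-9,-9,1,-9,-10,-10,-8,-61,-44,-34,8,-14,-53,-34,6,-74,-18,-56,-38],
    [0,0,0,0,0,0,0,0,0,0,0,0,0,0,0,0,0,1,0,-1,0,0,0,0],
    [0,0,0,0,0,0,0,1,0,0,-1,0,-2,-2,-1,0,-1,-2,-1,0,-2,-1,-2,2],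
    [0,0,-1,0,0,0,0,-1,0,-1,0,0,-1,-1,-1,0,0,-2,0,2,-3,1,-2,0],
    [26,-13,-13,-13,-13,-13,-14,0,-13,-13,-14,-13,-95,-68,-54,13,-21,-81,-54,6,-114,-28,-88,-63],
    [6,-3,-4,-4,-3,-3,-3,0,-3,-3,-3,-2,-22,-16,-13,3,-6,-18,-11,2,-27,-5,-20,-15],
    [2,-1,-1,-1,-1,-1,-1,0,-1,-2,-1,-1,-7,-5,-5,1,-1,-7,-4,1,-9,-1,-7,-4],
    [0,0,0,0,0,0,0,-2,0,0,0,0,5,4,3,-1,2,3,3,1,5,2,4,2],
    [-6,3,3,3,3,3,3,0,3,3,3,3,21,15,12,-3,4,18,12,-2,25,6,20,15],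
    [-2,1,1,1,1,1,1,0,1,0,1,1,7,5,4,-1,2,5,4,0,8,2,6,5],
    [2,-1,-1,-1,-1,-1,0,0,-1,-1,-2,-1,-3,-2,-1,0,-1,-3,-2,1,-4,-1,-3,0],
    [-2,1,1,1,1,1,1,0,1,1,1,1,7,5,4,-1,2,6,4,-1,8,2,6,5],
    [-6,3,3,3,3,3,3,0,3,3,3,3,21,15,12,-3,5,18,12,-1,25,6,20,13],
    [2,-1,-1,-1,-1,-1,-1,0,-1,-2,-1,-1,-7,-5,-5,1,-1,-6,-4,1,-9,-2,-7,-5],
    [-2,1,1,1,1,1,1,0,1,1,1,1,7,5,4,-1,1,6,4,0,8,2,6,6],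
    [-4,2,2,2,2,2,2,0,2,2,2,2,14,10,8,-2,3,12,8,-1,17,4,13,9]]

/-- The product with the form. -/
def y3_0G : List (List ℤ) := [[-3,-26,-42,35,-59,33,-47,35,13,0,2,-3,19,4,1,-3,-5,-2,1,-2,-4,1,-2,-3],
    [-17,-379,-628,553,-897,524,-728,526,187,-5,20,-15,241,57,20,-38,-56,-16,21,-15,-54,18,-15,-37],
    [-27,-633,-1061,931,-1514,889,-1232,889,315,-8,33,-24,405,95,36,-63,-92,-30,36,-25,-92,30,-21,-62],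
    [25,572,948,-840,1357,-794,1102,-795,-282,8,-28,21,-364,-87,-31,56,85,24,-33,22,84,-27,21,56],
    [-38,-885,-1474,1299,-2109,1236,-1717,1241,438,-10,45,-34,567,134,50,-89,-130,-41,51,-34,-130,43,-32,-87],
    [23,538,898,-791,1284,-755,1048,-757,-265,5,-26,19,-346,-82,-31,53,78,26,-31,21,80,-27,19,53],
    [-32,-728,-1208,1068,-1729,1013,-1411,1021,356,-5,34,-27,469,111,40,-73,-106,-34,43,-29,-109,37,-28,-72],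
    [22,503,834,-736,1192,-698,973,-706,-245,2,-23,19,-326,-77,-27,51,73,24,-29,21,76,-26,20,50],
    [7,175,294,-256,420,-247,342,-247,-89,3,-11,8,-111,-26,-11,18,26,9,-10,6,24,-8,6,17],
    [0,-1,-5,2,-7,5,-5,3,3,-2,2,-1,0,0,1,0,-1,-1,0,1,1,-1,1,0],
    [-1,3,8,-5,12,-8,11,-8,-3,0,-2,1,-1,0,-1,1,0,1,-1,-1,-1,0,0,0],
    [0,1,2,-4,3,-2,2,0,0,1,1,-2,0,0,0,-1,0,-1,0,0,1,0,-1,0],
    [13,256,421,-369,599,-349,488,-355,-125,0,-13,13,-170,-39,-13,26,39,13,-14,13,39,-13,13,26],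
    [3,60,99,-86,140,-82,114,-83,-29,0,-3,2,-39,-10,-3,6,9,3,-3,3,9,-3,3,6],
    [1,19,31,-27,45,-27,38,-28,-9,0,-1,1,-13,-3,-2,2,3,2,-1,1,3,-2,1,2],
    [0,-1,-1,0,-2,0,-1,2,1,0,1,-1,0,0,0,-2,0,0,0,0,0,0,0,0],
    [-3,-59,-95,83,-136,79,-111,81,29,0,4,-4,39,9,3,-6,-10,-3,3,-2,-8,3,-4,-6],
    [-1,-18,-27,25,-39,22,-33,25,7,2,0,-1,13,3,0,-2,-3,-2,1,-1,-3,2,-1,-2],
    [1,19,30,-28,44,-25,35,-26,-9,0,0,1,-12,-3,-1,2,3,1,-2,1,3,-1,1,2],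
    [-1,-24,-40,35,-56,32,-43,30,13,-2,2,-1,13,3,1,-2,-4,-1,1,-2,-2,1,0,-2],
    [-4,-56,-88,78,-126,72,-102,75,27,0,3,-4,39,9,3,-6,-10,-3,3,-4,-10,3,-4,-6],
    [1,22,33,-32,48,-27,39,-28,-9,0,0,0,-13,-3,0,2,3,0,-1,1,3,-2,1,2],
    [-1,-20,-35,28,-47,28,-38,28,10,0,1,-1,13,3,1,-2,-2,-1,1,-2,-2,1,-2,-2],
    [-2,-39,-64,56,-91,53,-74,54,19,0,2,-2,26,6,2,-4,-6,-2,2,-2,-6,2,-2,-4]]

/-- The code. -/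
def y3_1C : List ℕ := [8526168,16049241,6172586,11842106,13226529,2618684,14243469,11719738,4385751,7573641,138839,15568176,4091550,7702880,15699535,8314461,4307021,9969952,7720537,11946077,1308768,1399497,6842070,3081878]

/-- The matrix. -/
def y3_1M : List (List ℤ) := [[0,0,0,1,1,0,1,0,-1,0,0,1,7,4,6,-2,0,5,4,0,8,0,6,9],
    [-21,10,10,19,11,2,23,10,4,12,11,20,108,67,83,-21,14,78,57,-8,127,19,89,141],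
    [-32,15,18,29,16,1,38,13,5,17,17,31,194,125,146,-36,30,141,103,-13,227,38,161,240],
    [30,-13,-14,-27,-15,-3,-34,-14,-6,-17,-16,-28,-153,-95,-118,29,-22,-108,-81,10,-179,-29,-124,-205],
    [-47,22,24,42,24,3,54,20,8,27,26,44,265,170,201,-49,39,194,142,-19,312,52,221,329],
    [28,-14,-15,-25,-13,-1,-32,-12,-5,-16,-15,-26,-157,-101,-119,29,-23,-115,-83,12,-186,-31,-130,-194],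
    [-39,18,19,35,18,2,44,17,6,23,21,36,205,130,159,-38,29,148,108,-15,243,38,169,261],
    [28,-13,-14,-25,-13,-1,-30,-12,-4,-16,-15,-26,-145,-92,-113,27,-20,-105,-76,12,-173,-25,-120,-183],
    [9,-5,-5,-8,-5,0,-11,-3,-1,-5,-6,-9,-62,-41,-45,11,-10,-47,-34,4,-72,-14,-53,-70],
    [1,0,0,-1,0,0,0,-1,0,0,0,0,5,4,2,-1,1,5,4,0,5,3,5,2],
    [1,-1,-1,0,-1,0,-1,0,0,-1,-1,-1,-13,-10,-8,2,-2,-13,-8,2,-16,-4,-14,-6],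
    [0,0,0,0,1,-1,0,0,-1,0,1,1,8,6,6,-1,1,8,5,-1,10,1,9,3],
    [14,-7,-7,-13,-7,0,-14,-7,0,-7,-7,-13,-72,-45,-57,14,-8,-53,-37,7,-87,-9,-60,-94],
    [4,-2,-2,-4,-2,-1,-3,-2,-1,-2,-2,-3,-12,-6,-10,3,-1,-8,-5,2,-15,-1,-9,-18],
    [1,-1,-1,-1,0,0,-1,0,0,-1,-1,-1,-6,-4,-4,1,-1,-5,-3,1,-8,-1,-5,-3],
    [-1,0,1,1,1,0,1,0,0,1,1,1,9,6,7,-1,2,7,5,-1,11,1,9,6],
    [-3,2,1,3,2,0,3,2,0,2,2,3,15,9,12,-3,1,12,8,-2,18,2,13,20],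
    [0,0,0,0,0,-1,0,0,-1,0,0,0,4,3,4,0,0,4,2,-1,5,0,4,5],
    [1,0,0,-1,-1,0,-1,0,0,-1,-1,-1,-6,-4,-5,1,-1,-4,-3,0,-7,-1,-5,-8],
    [-1,0,1,1,1,0,1,0,0,0,0,1,10,6,7,-2,2,7,5,0,11,1,8,13],
    [-4,2,2,4,2,1,3,2,0,2,2,3,13,7,11,-3,1,9,6,-2,17,0,10,18],
    [1,0,0,-1,0,0,-1,-1,0,-1,0,-1,1,2,-1,0,1,2,1,0,1,2,2,-4],
    [-2,1,1,2,1,0,1,1,0,1,1,2,6,3,5,-2,0,4,2,-1,8,-1,5,8],
    [-2,1,1,2,1,0,2,1,0,1,1,2,10,6,8,-2,1,7,5,-1,12,1,8,14]]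

/-- The inverse. -/
def y3_1I : List (List ℤ) := [[1,0,0,-1,-1,0,-1,0,1,0,0,-1,-7,-4,-6,2,0,-5,-4,0,-8,0,-6,-9],
    [21,-9,-10,-19,-11,-2,-23,-10,-4,-12,-11,-20,-108,-67,-83,21,-14,-78,-57,8,-127,-19,-89,-141],
    [32,-15,-17,-29,-16,-1,-38,-13,-5,-17,-17,-31,-194,-125,-146,36,-30,-141,-103,13,-227,-38,-161,-240],
    [-30,13,14,28,15,3,34,14,6,17,16,28,153,95,118,-29,22,108,81,-10,179,29,124,205],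
    [47,-22,-24,-42,-23,-3,-54,-20,-8,-27,-26,-44,-265,-170,-201,49,-39,-194,-142,19,-312,-52,-221,-329],
    [-28,14,15,25,13,2,32,12,5,16,15,26,157,101,119,-29,23,115,83,-12,186,31,130,194],
    [39,-18,-19,-35,-18,-2,-43,-17,-6,-23,-21,-36,-205,-130,-159,38,-29,-148,-108,15,-243,-38,-169,-261],
    [-28,13,14,25,13,1,30,13,4,16,15,26,145,92,113,-27,20,105,76,-12,173,25,120,183],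
    [-9,5,5,8,5,0,11,3,2,5,6,9,62,41,45,-11,10,47,34,-4,72,14,53,70],
    [-1,0,0,1,0,0,0,1,0,1,0,0,-5,-4,-2,1,-1,-5,-4,0,-5,-3,-5,-2],
    [-1,1,1,0,1,0,1,0,0,1,2,1,13,10,8,-2,2,13,8,-2,16,4,14,6],
    [0,0,0,0,-1,1,0,0,1,0,-1,0,-8,-6,-6,1,-1,-8,-5,1,-10,-1,-9,-3],
    [-14,7,7,13,7,0,14,7,0,7,7,13,73,45,57,-14,8,53,37,-7,87,9,60,94],
    [-4,2,2,4,2,1,3,2,1,2,2,3,12,7,10,-3,1,8,5,-2,15,1,9,18],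
    [-1,1,1,1,0,0,1,0,0,1,1,1,6,4,5,-1,1,5,3,-1,8,1,5,3],
    [1,0,-1,-1,-1,0,-1,0,0,-1,-1,-1,-9,-6,-7,2,-2,-7,-5,1,-11,-1,-9,-6],
    [3,-2,-1,-3,-2,0,-3,-2,0,-2,-2,-3,-15,-9,-12,3,0,-12,-8,2,-18,-2,-13,-20],
    [0,0,0,0,0,1,0,0,1,0,0,0,-4,-3,-4,0,0,-3,-2,1,-5,0,-4,-5],
    [-1,0,0,1,1,0,1,0,0,1,1,1,6,4,5,-1,1,4,4,0,7,1,5,8],
    [1,0,-1,-1,-1,0,-1,0,0,0,0,-1,-10,-6,-7,2,-2,-7,-5,1,-11,-1,-8,-13],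
    [4,-2,-2,-4,-2,-1,-3,-2,0,-2,-2,-3,-13,-7,-11,3,-1,-9,-6,2,-16,0,-10,-18],
    [-1,0,0,1,0,0,1,1,0,1,0,1,-1,-2,1,0,-1,-2,-1,0,-1,-1,-2,4],
    [2,-1,-1,-2,-1,0,-1,-1,0,-1,-1,-2,-6,-3,-5,2,0,-4,-2,1,-8,1,-4,-8],
    [2,-1,-1,-2,-1,0,-2,-1,0,-1,-1,-2,-10,-6,-8,2,-1,-7,-5,1,-12,-1,-8,-13]]

/-- The product with the form. -/
def y3_1G : List (List ℤ) := [[3,14,23,-17,31,-18,27,-21,-6,-2,0,2,-13,-3,0,2,2,2,0,1,3,-1,2,2],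
    [29,379,657,-553,909,-548,750,-536,-187,-3,-13,17,-268,-64,-11,28,53,18,-13,11,59,-8,18,41],
    [46,604,1061,-886,1462,-885,1208,-864,-302,-5,-22,28,-433,-102,-18,44,84,30,-21,16,96,-9,27,66],
    [-43,-572,-993,840,-1376,829,-1134,809,283,3,19,-24,405,96,17,-41,-81,-26,20,-16,-91,11,-25,-62],
    [66,873,1526,-1280,2109,-1275,1742,-1245,-435,-6,-31,39,-623,-147,-27,64,122,42,-30,23,139,-15,39,95],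
    [-38,-514,-902,756,-1245,755,-1030,736,256,4,18,-22,368,87,16,-37,-71,-25,18,-13,-83,8,-22,-56],
    [52,706,1232,-1036,1704,-1031,1411,-1009,-350,-7,-24,31,-506,-119,-21,52,98,34,-25,18,114,-13,32,77],
    [-36,-493,-859,722,-1188,719,-985,706,243,7,16,-22,355,83,14,-37,-68,-24,17,-12,-80,10,-23,-54],
    [-14,-175,-307,255,-423,256,-348,249,89,0,7,-9,124,30,6,-13,-25,-9,6,-5,-27,2,-8,-19],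
    [2,9,18,-13,23,-14,17,-12,-6,2,-1,1,-6,-2,-1,0,2,1,0,1,1,1,0,1],
    [-1,-10,-19,14,-26,16,-21,15,7,-1,2,-2,7,2,1,-1,-2,-1,1,0,-1,-1,-1,-1],
    [1,-3,-6,7,-8,5,-6,3,1,-1,0,2,0,0,0,1,0,1,0,0,0,0,1,0],
    [-19,-229,-393,328,-543,327,-451,326,112,6,7,-13,170,39,6,-19,-33,-13,7,-7,-39,6,-13,-26],
    [-4,-53,-92,77,-127,77,-106,77,25,2,1,-2,39,10,1,-4,-7,-3,2,-1,-9,1,-3,-6],
    [-2,-28,-49,41,-68,42,-57,41,14,0,1,-1,20,5,2,-2,-4,-2,1,-1,-5,1,-1,-3],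
    [1,11,20,-15,27,-16,22,-16,-6,0,-1,1,-7,-2,0,2,1,0,0,0,1,0,1,1],
    [6,62,103,-87,144,-86,119,-86,-30,-1,-2,4,-45,-11,-2,5,10,4,-2,2,10,-2,4,7],
    [1,16,27,-23,38,-23,33,-25,-7,-2,0,1,-13,-3,0,2,2,2,-1,0,3,-1,1,2],
    [-2,-27,-45,41,-65,38,-53,38,13,0,0,-1,19,4,1,-2,-4,-1,2,-1,-5,1,-1,-3],
    [2,28,49,-41,67,-40,54,-39,-14,0,-1,1,-19,-5,-1,2,4,2,-1,2,4,-1,1,3],
    [5,51,84,-71,117,-69,97,-71,-24,-2,-1,3,-39,-9,-1,5,8,3,-1,2,10,-2,3,6],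
    [-1,-32,-54,48,-76,46,-63,44,15,0,1,0,20,5,1,-2,-4,-1,1,-1,-4,2,-1,-3],
    [1,17,29,-24,40,-25,34,-25,-8,-1,0,1,-13,-3,-1,1,2,1,-1,1,3,-1,2,2],
    [3,35,60,-50,83,-50,69,-50,-17,-1,-1,2,-26,-6,-1,3,5,2,-1,1,6,-1,2,4]]

/-- The code. -/
def y3_2C : List ℕ := [15795457,3188445,344530,12173779,15220998,1733927,272038,3103870,3332720,4239430,7329769,2635390,9533531,16328605,502311,14267817,1115136,5424512,13805698,13240383,7264233,14629491,12622208,4029826]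

/-- The matrix. -/
def y3_2M : List (List ℤ) := [[1,0,0,0,0,0,0,-2,-1,0,-1,0,6,4,4,-2,1,4,4,0,7,1,5,3],
    [-3,14,3,1,5,0,1,-7,-6,1,-7,12,78,53,46,-25,-6,70,46,-16,105,19,70,32],
    [-4,21,6,2,7,-2,-1,-11,-9,0,-14,18,116,78,69,-38,-9,104,65,-26,160,26,102,42],
    [5,-21,-4,-2,-7,0,-1,9,7,-2,10,-18,-104,-70,-61,35,11,-94,-60,23,-143,-27,-92,-39],
    [-6,31,7,2,10,-2,0,-16,-13,2,-18,26,168,114,99,-54,-14,152,96,-37,230,41,149,63],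
    [5,-19,-5,-2,-6,1,0,8,7,-2,11,-16,-97,-65,-57,32,10,-89,-54,23,-135,-22,-86,-36],
    [-6,25,5,2,8,-1,2,-13,-10,3,-15,22,138,93,82,-44,-12,124,79,-28,188,34,122,56],
    [4,-17,-3,-1,-5,1,-1,10,8,-2,11,-15,-95,-64,-57,30,9,-85,-55,19,-130,-23,-84,-38],
    [0,-6,-2,0,-1,1,1,4,4,1,4,-5,-33,-22,-19,11,2,-29,-18,8,-45,-7,-28,-10],
    [0,1,1,0,0,0,-1,0,0,0,0,0,1,1,0,-1,0,2,0,-2,2,0,1,-2],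
    [-1,0,0,1,0,1,1,1,1,1,1,0,-5,-4,-3,1,-1,-5,-3,1,-6,-1,-5,0],
    [2,-1,-1,-1,-1,-1,-1,-2,-2,-1,-1,0,-1,-1,0,0,0,-2,0,1,-2,-1,-2,-2],
    [1,-7,0,-1,-1,0,-1,6,6,0,6,-7,-37,-23,-23,14,5,-30,-22,6,-51,-8,-30,-15],
    [1,-2,-1,-1,-1,0,0,1,1,-1,1,-2,-12,-7,-8,4,1,-10,-6,3,-17,-1,-11,-5],
    [1,-1,-1,0,0,-1,0,0,0,-1,0,-1,-2,-1,0,1,1,-3,-1,2,-4,0,-2,2],
    [1,0,0,-1,0,-1,0,-1,-1,0,-1,0,9,7,6,-1,1,8,6,-1,11,2,9,5],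
    [0,2,0,0,0,0,0,-2,-2,0,-1,2,10,6,6,-4,-1,8,6,-2,13,2,8,4],
    [0,0,0,0,0,0,0,-1,-1,0,-1,0,4,2,3,-1,0,3,2,0,5,0,3,4],
    [0,-1,0,0,0,0,0,1,0,0,0,-1,-4,-3,-2,1,0,-3,-2,0,-5,-2,-3,-1],
    [-1,1,1,1,1,1,0,0,0,0,0,1,4,2,2,-2,0,3,2,-1,6,0,3,1],
    [-1,2,0,1,0,1,1,-1,-1,1,-1,2,5,2,3,-3,-2,3,3,-1,8,1,3,2],
    [1,-1,0,0,-1,-1,-1,0,0,-1,0,-1,-7,-5,-4,2,1,-7,-5,1,-9,-2,-7,-5],
    [0,0,0,0,0,0,0,-1,-1,0,0,1,3,2,2,-1,0,2,2,0,4,0,3,-1],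
    [0,1,0,0,0,0,0,-1,-1,0,-1,1,5,3,3,-2,-1,4,3,-1,7,1,4,2]]

/-- The inverse. -/
def y3_2I : List (List ℤ) := [[0,0,0,0,0,0,0,2,1,0,1,0,-6,-4,-4,2,-1,-4,-4,0,-7,-1,-5,-3],
    [3,-13,-3,-1,-5,0,-1,7,6,-1,7,-12,-78,-53,-46,25,6,-70,-46,16,-105,-19,-70,-32],
    [4,-21,-5,-2,-7,2,1,11,9,0,14,-18,-116,-78,-69,38,9,-104,-65,26,-160,-26,-102,-42],
    [-5,21,4,3,7,0,1,-9,-7,2,-10,18,104,70,61,-35,-11,94,60,-23,143,27,92,39],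
    [6,-31,-7,-2,-9,2,0,16,13,-2,18,-26,-168,-114,-99,54,14,-152,-96,37,-230,-41,-149,-63],
    [-5,19,5,2,6,0,0,-8,-7,2,-11,16,97,65,57,-32,-10,89,54,-23,135,22,86,36],
    [6,-25,-5,-2,-8,1,-1,13,10,-3,15,-22,-138,-93,-82,44,12,-124,-79,28,-188,-34,-122,-56],
    [-4,17,3,1,5,-1,1,-9,-8,2,-11,15,95,64,57,-30,-9,85,55,-19,130,23,84,38],
    [0,6,2,0,1,-1,-1,-4,-3,-1,-4,5,33,22,19,-11,-2,29,18,-8,45,7,28,10],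
    [0,-1,-1,0,0,0,1,0,0,1,0,0,-1,-1,0,1,0,-2,0,2,-2,0,-1,2],
    [1,0,0,-1,0,-1,-1,-1,-1,-1,0,0,5,4,3,-1,1,5,3,-1,6,1,5,0],
    [-2,1,1,1,1,1,1,2,2,1,1,1,1,1,0,0,0,2,0,-1,2,1,2,2],
    [-1,7,0,1,1,0,1,-6,-6,0,-6,7,38,23,23,-14,-5,30,22,-6,51,8,30,15],
    [-1,2,1,1,1,0,0,-1,-1,1,-1,2,12,8,8,-4,-1,10,6,-3,17,1,11,5],
    [-1,1,1,0,0,1,0,0,0,1,0,1,2,1,1,-1,-1,3,1,-2,4,0,2,-2],
    [-1,0,0,1,0,1,0,1,1,0,1,0,-9,-7,-6,2,-1,-8,-6,1,-11,-2,-9,-5],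
    [0,-2,0,0,0,0,0,2,2,0,1,-2,-10,-6,-6,4,2,-8,-6,2,-13,-2,-8,-4],
    [0,0,0,0,0,0,0,1,1,0,1,0,-4,-2,-3,1,0,-2,-2,0,-5,0,-3,-4],
    [0,1,0,0,0,0,0,-1,0,0,0,1,4,3,2,-1,0,3,3,0,5,2,3,1],
    [1,-1,-1,-1,-1,-1,0,0,0,0,0,-1,-4,-2,-2,2,0,-3,-2,2,-6,0,-3,-1],
    [1,-2,0,-1,0,-1,-1,1,1,-1,1,-2,-5,-2,-3,3,2,-3,-3,1,-7,-1,-3,-2],
    [-1,1,0,0,1,1,1,0,0,1,0,1,7,5,4,-2,-1,7,5,-1,9,3,7,5],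
    [0,0,0,0,0,0,0,1,1,0,0,-1,-3,-2,-2,1,0,-2,-2,0,-4,0,-2,1],
    [0,-1,0,0,0,0,0,1,1,0,1,-1,-5,-3,-3,2,1,-4,-3,1,-7,-1,-4,-1]]

/-- The product with the form. -/
def y3_2G : List (List ℤ) := [[3,26,43,-35,60,-36,50,-37,-13,0,-2,2,-20,-5,-2,2,5,2,0,1,5,-1,2,3],
    [17,379,648,-563,924,-561,762,-542,-195,3,-29,16,-251,-66,-28,27,55,17,-22,8,63,-8,15,37],
    [26,613,1061,-915,1509,-919,1243,-884,-320,6,-51,27,-409,-107,-47,44,89,30,-37,13,103,-10,22,60],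
    [-25,-562,-964,840,-1375,835,-1133,805,289,-5,42,-23,373,98,41,-39,-81,-25,35,-12,-95,10,-21,-55],
    [37,858,1479,-1281,2109,-1283,1738,-1236,-447,9,-70,38,-571,-150,-66,62,125,41,-53,17,145,-14,31,84],
    [-20,-501,-868,750,-1237,755,-1021,726,262,-5,42,-22,334,88,40,-36,-72,-25,32,-10,-85,8,-18,-49],
    [29,694,1197,-1037,1708,-1040,1411,-1004,-361,6,-57,31,-463,-122,-54,51,100,34,-44,14,118,-12,26,68],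
    [-20,-487,-839,726,-1197,729,-990,706,253,-3,40,-22,327,86,38,-37,-70,-24,30,-10,-84,9,-19,-48],
    [-7,-167,-289,249,-411,250,-337,239,89,-3,15,-8,109,29,13,-12,-25,-8,10,-3,-27,2,-5,-16],
    [0,3,7,-5,8,-5,4,-2,-3,2,-1,0,0,0,0,-1,1,0,0,0,-1,1,-1,0],
    [1,6,10,-9,13,-8,12,-9,-1,-1,2,-1,-6,-1,0,0,0,0,0,1,2,-1,1,1],
    [1,-2,-5,6,-7,5,-6,3,0,0,-1,2,0,0,0,1,1,1,1,0,0,0,0,0],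
    [-12,-246,-417,360,-595,361,-494,354,127,0,20,-13,170,44,19,-19,-38,-13,13,-6,-44,6,-12,-25],
    [-2,-51,-87,75,-124,76,-103,74,26,0,4,-2,34,10,4,-4,-7,-2,3,-1,-9,1,-3,-5],
    [0,-11,-20,17,-29,18,-24,17,7,-1,2,-1,7,2,2,-1,-2,-1,1,0,-2,0,0,-1],
    [1,12,20,-17,29,-17,23,-16,-7,1,-2,1,-7,-2,-1,2,2,0,0,0,2,0,0,1],
    [3,60,98,-87,141,-85,117,-84,-30,0,-4,3,-40,-11,-4,4,10,3,-3,1,10,-2,3,6],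
    [1,17,27,-24,39,-23,33,-25,-8,-1,-1,1,-13,-4,-1,2,3,2,-1,1,4,-1,1,2],
    [-2,-18,-29,26,-42,24,-34,25,9,0,1,-2,13,3,1,-2,-3,-1,2,-1,-4,0,-1,-2],
    [2,31,52,-45,73,-43,58,-41,-16,1,-2,1,-20,-5,-2,2,5,1,-1,2,5,-1,1,3],
    [3,47,77,-67,111,-67,93,-67,-24,0,-4,3,-34,-9,-4,4,8,2,-2,1,10,-1,3,5],
    [-1,-32,-53,49,-77,46,-64,45,15,0,1,0,20,5,2,-2,-4,-1,2,-1,-5,2,-1,-3],
    [1,20,34,-28,48,-29,40,-29,-11,0,-2,2,-14,-3,-2,2,3,1,-1,1,3,-1,2,2],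
    [2,39,66,-57,94,-57,78,-56,-20,0,-3,2,-27,-7,-3,3,6,2,-2,1,7,-1,2,4]]

/-- The code. -/
def y3_3C : List ℕ := [11709787,8564449,4848936,5698511,16003601,278824,1551077,8417636,1099829,6393279,14117655,6592672,14861651,14941251,4009852,4468896,8409732,2134690,8066214,16428379,421123,14906435,12234074,16169304]

/-- The matrix. -/
def y3_3M : List (List ℤ) := [[1,-1,0,-1,-1,0,-1,0,-1,0,-1,-1,-6,-5,-4,1,-2,-5,-4,0,-7,-3,-6,-3],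
    [19,-20,0,-8,-10,-1,-9,-1,-12,-3,-21,-9,-62,-67,-34,7,-16,-69,-48,2,-82,-50,-66,5],
    [30,-32,0,-13,-16,-3,-14,0,-21,-4,-33,-15,-95,-105,-49,13,-25,-106,-74,1,-126,-82,-99,12],
    [-27,29,-1,11,14,2,13,1,17,5,32,12,85,95,45,-9,22,97,67,-2,113,74,91,-12],
    [43,-46,0,-18,-23,-4,-20,0,-28,-7,-48,-20,-141,-155,-74,18,-36,-158,-109,4,-187,-117,-149,15],
    [-26,28,0,11,14,3,12,0,17,4,28,12,84,92,43,-12,20,94,65,-2,112,70,88,-8],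
    [35,-38,1,-14,-18,-3,-17,1,-22,-5,-38,-15,-118,-129,-62,15,-29,-131,-91,2,-155,-98,-124,6],
    [-24,26,-1,10,12,1,11,-2,15,2,26,10,81,89,43,-10,22,88,62,0,106,68,84,-5],
    [-9,10,1,4,5,1,4,0,6,2,10,5,32,34,17,-5,8,36,24,-2,43,24,34,-6],
    [1,-1,-1,-1,-1,-1,0,-1,-1,-2,-1,-1,0,0,0,1,1,-2,0,2,-2,1,-1,4],
    [-1,1,1,0,1,0,0,0,1,1,0,1,8,7,5,-2,1,9,5,-2,11,2,9,1],
    [0,0,0,0,0,1,0,1,0,0,0,-1,-5,-4,-4,1,-2,-4,-3,0,-6,-1,-5,0],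
    [-13,13,0,6,7,0,7,0,7,0,13,6,50,50,29,-7,14,51,36,0,64,35,51,7],
    [-3,3,0,2,2,0,1,0,2,0,3,1,9,9,5,-1,3,9,6,0,12,7,9,-1],
    [-2,2,1,1,1,1,1,0,1,1,1,1,8,7,4,-2,1,8,5,-1,11,3,8,2],
    [0,0,0,0,0,1,0,1,0,0,0,0,-5,-5,-4,0,-2,-4,-3,0,-6,-2,-5,-2],
    [4,-4,-1,-2,-2,0,-2,-1,-2,-1,-4,-2,-15,-14,-9,2,-4,-16,-10,2,-20,-8,-16,-1],
    [0,-1,0,0,0,1,0,1,0,1,0,0,-7,-6,-4,1,-2,-6,-4,0,-8,-3,-6,-4],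
    [0,1,-1,0,0,-1,0,-1,0,0,1,0,3,4,2,0,1,3,2,1,3,3,3,0],
    [1,-1,0,-1,-1,0,-1,0,-1,0,-1,-1,-6,-5,-4,1,-2,-5,-4,-1,-7,-3,-5,-3],
    [3,-3,0,-2,-2,0,-2,0,-1,0,-3,-1,-14,-13,-9,2,-4,-13,-9,0,-18,-8,-14,-4],
    [-1,1,0,0,0,0,1,0,0,0,1,0,5,5,3,0,1,5,4,0,6,3,5,3],
    [2,-1,0,-1,-1,0,-1,0,-1,0,-1,-1,-6,-5,-4,1,-2,-5,-4,-1,-7,-3,-6,-3],
    [2,-2,0,-1,-1,0,-1,0,-1,0,-2,-1,-7,-7,-4,1,-2,-7,-5,0,-9,-5,-7,-1]]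

/-- The inverse. -/
def y3_3I : List (List ℤ) := [[-2,1,0,1,1,0,1,0,1,0,1,1,6,5,4,-1,2,5,4,0,7,3,6,3],
    [-19,19,0,8,10,1,9,1,12,3,21,9,62,67,34,-7,16,69,48,-2,82,50,66,-5],
    [-30,32,-1,13,16,3,14,0,21,4,33,15,95,105,49,-13,25,106,74,-1,126,82,99,-12],
    [27,-29,1,-12,-14,-2,-13,-1,-17,-5,-32,-12,-85,-95,-45,9,-22,-97,-67,2,-113,-74,-91,12],
    [-43,46,0,18,22,4,20,0,28,7,48,20,141,155,74,-18,36,158,109,-4,187,117,149,-15],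
    [26,-28,0,-11,-14,-4,-12,0,-17,-4,-28,-12,-84,-92,-43,12,-20,-94,-65,2,-112,-70,-88,8],
    [-35,38,-1,14,18,3,16,-1,22,5,38,15,118,129,62,-15,29,131,91,-2,155,98,124,-6],
    [24,-26,1,-10,-12,-1,-11,1,-15,-2,-26,-10,-81,-89,-43,10,-22,-88,-62,0,-106,-68,-84,5],
    [9,-10,-1,-4,-5,-1,-4,0,-7,-2,-10,-5,-32,-34,-17,5,-8,-36,-24,2,-43,-24,-34,6],
    [-1,1,1,1,1,1,0,1,1,1,1,1,0,0,0,-1,-1,2,0,-2,2,-1,1,-4],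
    [1,-1,-1,0,-1,0,0,0,-1,-1,-1,-1,-8,-7,-5,2,-1,-9,-5,2,-11,-2,-9,-1],
    [0,0,0,0,0,-1,0,-1,0,0,0,0,5,4,4,-1,2,4,3,0,6,1,5,0],
    [13,-13,0,-6,-7,0,-7,0,-7,0,-13,-6,-51,-50,-29,7,-14,-51,-36,0,-64,-35,-51,-7],
    [3,-3,0,-2,-2,0,-1,0,-2,0,-3,-1,-9,-10,-5,1,-3,-9,-6,0,-12,-7,-9,1],
    [2,-2,-1,-1,-1,-1,-1,0,-1,-1,-1,-1,-8,-7,-5,2,-1,-8,-5,1,-11,-3,-8,-2],
    [0,0,0,0,0,-1,0,-1,0,0,0,0,5,5,4,-1,2,4,3,0,6,2,5,2],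
    [-4,4,1,2,2,0,2,1,2,1,4,2,15,14,9,-2,3,16,10,-2,20,8,16,1],
    [0,1,0,0,0,-1,0,-1,0,-1,0,0,7,6,4,-1,2,5,4,0,8,3,6,4],
    [0,-1,1,0,0,1,0,1,0,0,-1,0,-3,-4,-2,0,-1,-3,-3,-1,-3,-3,-3,0],
    [-1,1,0,1,1,0,1,0,1,0,1,1,6,5,4,-1,2,5,4,0,7,3,5,3],
    [-3,3,0,2,2,0,2,0,1,0,3,1,14,13,9,-2,4,13,9,0,17,8,14,4],
    [1,-1,0,0,0,0,-1,0,0,0,-1,0,-5,-5,-3,0,-1,-5,-4,0,-6,-4,-5,-3],
    [-2,1,0,1,1,0,1,0,1,0,1,1,6,5,4,-1,2,5,4,1,7,3,5,3],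
    [-2,2,0,1,1,0,1,0,1,0,2,1,7,7,4,-1,2,7,5,0,9,5,7,0]]

/-- The product with the form. -/
def y3_3G : List (List ℤ) := [[-3,-23,-35,30,-51,30,-44,33,10,2,1,-3,20,4,1,-2,-5,-2,1,0,-5,1,-3,-3],
    [-20,-379,-642,562,-912,550,-752,539,186,4,11,-16,278,51,21,-21,-59,-19,21,-12,-68,11,-16,-41],
    [-34,-619,-1061,923,-1503,909,-1240,890,306,6,18,-27,461,83,37,-32,-96,-34,36,-21,-114,16,-25,-68],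
    [30,563,956,-840,1359,-819,1119,-801,-277,-4,-14,22,-412,-75,-32,30,87,28,-33,19,102,-16,22,61],
    [-46,-870,-1485,1297,-2109,1274,-1740,1248,430,8,25,-37,644,115,52,-46,-135,-46,51,-28,-159,24,-35,-95],
    [26,512,878,-766,1246,-755,1029,-738,-253,-5,-14,20,-380,-68,-32,26,78,27,-30,17,95,-14,20,56],
    [-35,-704,-1200,1051,-1706,1032,-1411,1013,346,9,19,-28,522,94,42,-37,-108,-37,42,-22,-130,20,-29,-77],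
    [24,490,833,-730,1185,-717,981,-706,-240,-8,-13,20,-366,-66,-29,26,76,26,-29,15,92,-14,21,54],
    [10,176,303,-261,428,-259,352,-252,-89,0,-7,9,-130,-23,-11,9,28,10,-10,6,31,-4,7,19],
    [-2,-10,-19,14,-25,15,-19,13,6,-2,1,-1,7,1,1,0,-2,-1,0,-1,-1,0,0,-1],
    [0,12,23,-19,32,-20,26,-18,-7,1,-2,1,-8,-1,-1,0,2,1,-1,0,1,0,0,1],
    [0,2,5,-5,6,-3,3,-1,-1,1,1,-2,1,0,0,0,-1,-1,0,1,0,0,-1,0],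
    [12,219,365,-321,522,-315,435,-315,-106,-7,-6,12,-170,-31,-12,12,37,13,-13,6,44,-6,12,25],
    [3,66,111,-98,159,-96,131,-94,-32,-1,-2,2,-47,-10,-4,4,10,3,-4,2,12,-2,3,7],
    [1,18,30,-26,43,-26,36,-26,-9,0,-1,1,-14,-2,-2,1,3,1,-1,1,4,-1,1,2],
    [-1,-18,-32,26,-45,27,-37,27,10,0,2,-2,14,2,1,-2,-3,-1,1,0,-3,0,-1,-2],
    [-3,-56,-91,81,-131,79,-109,78,27,1,2,-3,41,8,3,-3,-10,-3,3,-1,-10,2,-3,-6],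
    [-1,-15,-23,21,-34,21,-30,23,6,2,0,-1,13,3,1,-1,-3,-2,1,0,-4,1,-1,-2],
    [1,19,30,-28,44,-26,36,-26,-9,0,0,1,-13,-2,-1,1,3,1,-2,1,3,-1,1,2],
    [-3,-27,-44,38,-62,36,-50,36,13,0,1,-2,20,4,1,-2,-5,-2,1,-2,-5,1,-1,-3],
    [-3,-42,-66,60,-97,57,-81,59,20,2,1,-3,34,6,2,-3,-8,-2,3,-1,-10,1,-3,-5],
    [1,29,47,-43,67,-40,56,-40,-13,-1,0,0,-20,-4,-1,2,4,1,-1,1,5,-2,1,3],
    [0,-19,-31,27,-44,27,-37,27,9,1,1,-1,14,3,1,-1,-3,-1,1,-1,-3,1,-2,-2],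
    [-2,-35,-58,51,-83,50,-69,50,17,1,1,-2,27,5,2,-2,-6,-2,2,-1,-7,1,-2,-4]]

/-- The code. -/
def y3_4C : List ℕ := [5007965,9685100,15894963,16334669,11558026,13708730,8768186,4052617,15437310,3551537,11280420,4745378,546782,11878977,459407,7135837,8311806,10035205,4145667,15118415,15683781,295678,2870238,15184606]

/-- The matrix. -/
def y3_4M : List (List ℤ) := [[-1,0,1,1,1,0,1,0,0,1,0,1,10,7,7,-2,2,8,5,-1,12,0,9,12],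
    [-20,12,11,11,10,1,11,12,0,10,2,-1,88,68,59,-9,9,91,48,-22,119,12,88,99],
    [-33,19,20,18,15,1,18,21,1,16,4,-3,140,110,94,-13,16,147,76,-36,193,19,141,153],
    [29,-18,-15,-15,-14,-2,-15,-18,1,-15,-3,3,-119,-93,-80,12,-9,-128,-66,33,-165,-17,-121,-133],
    [-46,27,26,25,22,2,24,29,0,24,5,-5,191,150,129,-18,18,204,104,-52,265,25,194,211],
    [28,-17,-16,-15,-13,-1,-14,-19,-1,-14,-3,3,-110,-87,-74,10,-9,-120,-60,32,-155,-14,-113,-121],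
    [-40,23,22,21,19,3,20,25,2,21,4,-3,156,122,105,-15,13,168,85,-44,218,20,160,173],
    [29,-16,-16,-15,-14,-2,-14,-17,-2,-15,-3,2,-115,-90,-77,11,-11,-122,-63,31,-159,-15,-118,-128],
    [8,-5,-5,-5,-3,1,-5,-5,1,-4,-1,1,-38,-30,-26,3,-5,-39,-20,9,-52,-5,-37,-41],
    [1,0,0,0,-1,-1,0,0,-1,0,0,0,-1,-1,0,0,0,-1,-1,0,-1,-1,-2,-2],
    [0,0,-1,0,0,1,0,0,0,0,0,0,-6,-5,-4,0,-2,-6,-3,1,-8,-1,-6,-1],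
    [0,-1,0,0,0,-1,0,-1,0,0,0,1,4,3,3,0,2,2,2,1,4,0,3,4],
    [14,-7,-7,-7,-7,0,-7,-7,-1,-7,-1,0,-61,-48,-41,6,-8,-62,-34,13,-82,-8,-62,-68],
    [3,-2,-2,-2,-2,0,-1,-2,0,-1,0,0,-14,-10,-9,2,-1,-14,-7,4,-19,-1,-14,-17],
    [1,-1,-1,-1,0,0,0,-1,0,-1,0,0,0,0,0,0,1,-1,1,2,-2,2,0,0],
    [-1,0,1,1,1,0,1,0,0,1,0,0,10,7,7,-1,2,8,5,-1,12,1,9,12],
    [-2,1,1,1,1,-1,1,1,-1,1,0,0,13,10,9,-1,2,13,7,-3,17,1,13,14],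
    [-1,0,1,0,0,0,0,0,0,0,0,0,4,3,2,0,1,4,2,-1,5,0,4,5],
    [1,-1,0,0,0,0,0,0,0,-1,0,0,-2,-2,-1,0,1,-3,-1,1,-3,-1,-2,-4],
    [-1,1,1,1,0,0,1,0,0,0,0,0,7,5,4,-1,2,5,3,0,8,1,5,9],
    [-3,2,1,2,2,0,1,1,0,2,0,0,13,10,9,-2,1,13,7,-3,18,1,13,15],
    [2,-1,-1,-1,-1,-1,-1,-1,0,-1,0,0,-6,-4,-4,1,0,-6,-3,2,-8,0,-6,-8],
    [-2,1,1,1,1,0,1,1,1,1,0,1,8,6,5,-1,1,7,4,-1,10,1,8,10],
    [-2,1,1,1,1,0,1,1,0,1,0,0,9,7,6,-1,1,9,5,-2,12,1,9,11]]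

/-- The inverse. -/
def y3_4I : List (List ℤ) := [[2,0,-1,-1,-1,0,-1,0,0,-1,0,-1,-10,-7,-7,2,-2,-8,-5,1,-12,0,-9,-12],
    [20,-11,-11,-11,-10,-1,-11,-12,0,-10,-2,1,-88,-68,-59,9,-9,-91,-48,22,-119,-12,-88,-99],
    [33,-19,-19,-18,-15,-1,-18,-21,-1,-16,-4,3,-140,-110,-94,13,-16,-147,-76,36,-193,-19,-141,-153],
    [-29,18,15,16,14,2,15,18,-1,15,3,-3,119,93,80,-12,9,128,66,-33,165,17,121,133],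
    [46,-27,-26,-25,-21,-2,-24,-29,0,-24,-5,5,-191,-150,-129,18,-18,-204,-104,52,-265,-25,-194,-211],
    [-28,17,16,15,13,2,14,19,1,14,3,-3,110,87,74,-10,9,120,60,-32,155,14,113,121],
    [40,-23,-22,-21,-19,-3,-19,-25,-2,-21,-4,3,-156,-122,-105,15,-13,-168,-85,44,-218,-20,-160,-173],
    [-29,16,16,15,14,2,14,18,2,15,3,-2,115,90,77,-11,11,122,63,-31,159,15,118,128],
    [-8,5,5,5,3,-1,5,5,0,4,1,-1,38,30,26,-3,5,39,20,-9,52,5,37,41],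
    [-1,0,0,0,1,1,0,0,1,1,0,0,1,1,0,0,0,1,1,0,1,1,2,2],
    [0,0,1,0,0,-1,0,0,0,0,1,0,6,5,4,0,2,6,3,-1,8,1,6,1],
    [0,1,0,0,0,1,0,1,0,0,0,0,-4,-3,-3,0,-2,-2,-2,-1,-4,0,-3,-4],
    [-14,7,7,7,7,0,7,7,1,7,1,0,62,48,41,-6,8,62,34,-13,82,8,62,68],
    [-3,2,2,2,2,0,1,2,0,1,0,0,14,11,9,-2,1,14,7,-4,19,1,14,17],
    [-1,1,1,1,0,0,0,1,0,1,0,0,0,0,1,0,-1,1,-1,-2,2,-2,0,0],
    [1,0,-1,-1,-1,0,-1,0,0,-1,0,0,-10,-7,-7,2,-2,-8,-5,1,-12,-1,-9,-12],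
    [2,-1,-1,-1,-1,1,-1,-1,1,-1,0,0,-13,-10,-9,1,-1,-13,-7,3,-17,-1,-13,-14],
    [1,0,-1,0,0,0,0,0,0,0,0,0,-4,-3,-2,0,-1,-3,-2,1,-5,0,-4,-5],
    [-1,1,0,0,0,0,0,0,0,1,0,0,2,2,1,0,-1,3,2,-1,3,1,2,4],
    [1,-1,-1,-1,0,0,-1,0,0,0,0,0,-7,-5,-4,1,-2,-5,-3,1,-8,-1,-5,-9],
    [3,-2,-1,-2,-2,0,-1,-1,0,-2,0,0,-13,-10,-9,2,-1,-13,-7,3,-17,-1,-13,-15],
    [-2,1,1,1,1,1,1,1,0,1,0,0,6,4,4,-1,0,6,3,-2,8,1,6,8],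
    [2,-1,-1,-1,-1,0,-1,-1,-1,-1,0,-1,-8,-6,-5,1,-1,-7,-4,1,-10,-1,-7,-10],
    [2,-1,-1,-1,-1,0,-1,-1,0,-1,0,0,-9,-7,-6,1,-1,-9,-5,2,-12,-1,-9,-10]]

/-- The product with the form. -/
def y3_4G : List (List ℤ) := [[3,21,33,-28,48,-28,41,-31,-10,-1,-1,3,-19,-3,-2,2,5,3,-1,1,5,-2,2,3],
    [22,379,637,-544,907,-548,757,-548,-190,-7,-22,17,-288,-60,-30,33,65,31,-14,12,74,-20,18,44],
    [36,624,1061,-901,1502,-912,1255,-908,-313,-12,-34,25,-480,-99,-50,52,105,52,-22,22,125,-32,28,73],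
    [-32,-581,-978,840,-1392,842,-1161,839,290,10,31,-22,439,93,45,-48,-98,-46,22,-19,-114,30,-26,-67],
    [49,875,1486,-1264,2109,-1280,1762,-1275,-440,-16,-49,35,-670,-139,-71,74,147,73,-32,29,174,-45,39,102],
    [-28,-514,-875,743,-1240,755,-1038,751,257,11,28,-19,395,82,42,-43,-85,-43,18,-17,-103,27,-23,-60],
    [38,699,1185,-1009,1684,-1023,1411,-1023,-349,-16,-39,28,-539,-112,-57,60,117,59,-26,22,141,-37,33,82],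
    [-26,-481,-815,692,-1158,704,-971,706,240,12,27,-20,374,77,40,-42,-81,-41,17,-15,-98,26,-24,-57],
    [-10,-172,-296,248,-418,255,-349,252,89,2,11,-8,132,27,15,-15,-29,-15,6,-6,-34,8,-7,-20],
    [1,13,25,-20,33,-21,26,-17,-8,2,-1,0,-7,-2,-1,0,2,1,0,1,1,0,-1,1],
    [0,-1,-7,2,-8,6,-6,4,3,-1,2,-1,1,0,1,-1,0,-1,0,0,0,-1,1,0],
    [0,-3,-3,5,-4,2,-3,1,0,0,-1,2,0,1,-1,1,0,1,0,0,0,0,0,0],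
    [-13,-209,-346,294,-496,300,-418,307,104,7,13,-13,170,33,19,-20,-39,-20,7,-7,-46,13,-13,-26],
    [-4,-57,-95,80,-135,82,-113,83,28,2,3,-3,45,10,5,-5,-10,-5,2,-2,-12,3,-4,-7],
    [0,-9,-17,13,-24,16,-21,15,5,0,1,0,7,1,2,-1,-1,-1,0,0,-2,1,0,-1],
    [1,6,12,-8,17,-10,14,-11,-4,0,-1,1,-6,-1,-1,2,1,1,0,0,2,0,0,1],
    [3,50,82,-70,119,-72,100,-73,-26,-1,-4,4,-39,-8,-5,5,10,5,-2,1,10,-3,3,6],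
    [0,3,5,-3,7,-5,8,-8,-1,-2,0,1,-6,-1,-1,1,1,2,0,0,2,-1,1,1],
    [-1,-26,-44,39,-63,38,-52,38,13,0,1,-1,19,4,2,-2,-4,-2,2,-1,-5,1,-1,-3],
    [2,27,43,-38,61,-36,50,-36,-13,0,-1,1,-19,-4,-2,2,5,2,-1,2,5,-2,1,3],
    [3,36,55,-48,82,-49,70,-53,-17,-2,-2,3,-32,-6,-4,4,8,4,-1,1,10,-3,3,5],
    [0,-20,-31,29,-46,27,-39,28,9,1,1,0,13,3,1,-2,-3,-1,1,0,-3,2,-1,-2],
    [1,17,28,-23,40,-24,33,-24,-9,0,-2,2,-13,-2,-2,2,3,1,-1,1,3,-1,2,2],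
    [2,32,53,-45,76,-46,64,-47,-16,-1,-2,2,-26,-5,-3,3,6,3,-1,1,7,-2,2,4]]

/-- The code. -/
def y3_5C : List ℕ := [2420359,14717465,7546974,3181,7211075,14416101,15439555,11192681,5781883,532642,395511,6397952,7691692,8403014,10312638,10901712,5924050,8460369,10833770,1685873,4343921,4755256,5579644,7139624]

/-- The matrix. -/
def y3_5M : List (List ℤ) := [[-1,1,1,0,0,0,0,1,0,1,1,-1,2,3,1,1,0,4,1,-2,4,1,4,-2],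
    [23,-4,-2,-11,-23,-14,-22,-2,-12,-1,-4,-18,-121,-82,-72,31,-22,-96,-78,-6,-134,-39,-105,-135],
    [36,-5,-5,-17,-39,-22,-37,-4,-18,0,-4,-27,-218,-149,-130,54,-39,-175,-138,-8,-243,-67,-191,-244],
    [-35,6,3,17,36,21,33,4,18,2,7,25,184,126,110,-46,34,148,118,8,206,60,162,200],
    [53,-9,-6,-26,-56,-32,-53,-6,-26,-2,-8,-39,-304,-208,-182,76,-54,-245,-193,-11,-340,-95,-267,-336],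
    [-33,6,5,16,34,19,33,5,16,2,4,23,191,131,115,-47,33,155,120,5,215,58,169,213],
    [45,-7,-6,-22,-46,-26,-45,-5,-22,-3,-7,-32,-257,-176,-156,63,-47,-207,-162,-9,-288,-79,-227,-283],
    [-31,4,4,15,32,17,31,2,15,2,4,23,184,126,113,-45,34,147,116,7,206,55,162,203],
    [-11,3,2,5,11,7,11,2,5,0,2,9,63,43,36,-16,10,52,40,1,71,20,55,68],
    [0,-1,0,0,0,-1,0,-1,0,0,0,0,4,3,4,0,2,2,2,1,4,0,4,4],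
    [-1,1,1,0,1,1,1,1,0,0,0,1,8,6,4,-2,0,9,5,-2,10,2,8,6],
    [0,0,0,0,0,0,0,0,0,0,0,-2,0,1,0,1,1,0,0,0,0,1,1,0],
    [-14,0,1,7,14,7,14,1,7,0,1,13,77,50,49,-20,15,58,49,6,85,21,65,92],
    [-4,1,1,2,4,2,3,0,2,0,0,3,23,15,14,-6,4,18,14,0,26,6,20,25],
    [-2,1,1,1,1,1,2,1,1,1,0,1,9,6,5,-2,1,8,5,-1,11,2,8,11],
    [0,0,0,0,-1,0,-1,1,0,0,0,-1,-11,-8,-7,2,-2,-9,-7,0,-12,-3,-10,-9],
    [4,-1,0,-2,-3,-2,-3,-1,-2,0,-1,-4,-12,-7,-7,4,-2,-9,-8,-1,-13,-4,-9,-16],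
    [1,0,0,0,-1,0,-1,0,0,0,0,-1,-9,-6,-6,2,-1,-8,-6,0,-10,-2,-8,-11],
    [-2,1,0,1,2,1,1,0,1,1,1,1,8,6,5,-2,1,8,5,0,10,3,8,5],
    [1,0,0,0,-1,-1,-1,0,-1,0,0,-1,-5,-3,-2,1,-1,-4,-4,-1,-5,-2,-4,-6],
    [3,0,0,-2,-3,-1,-3,0,-2,0,0,-3,-16,-10,-11,4,-4,-11,-10,-2,-18,-4,-13,-18],
    [-2,0,0,1,1,1,2,0,1,1,1,1,6,4,4,-1,2,4,4,1,6,2,5,8],
    [2,0,-1,-1,-1,-1,-1,0,-1,-1,0,-2,-6,-3,-4,2,-1,-4,-3,0,-7,0,-5,-8],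
    [2,0,0,-1,-2,-1,-2,0,-1,0,0,-2,-11,-7,-7,3,-2,-8,-7,-1,-12,-3,-9,-14]]

/-- The inverse. -/
def y3_5I : List (List ℤ) := [[0,-1,-1,0,0,0,0,-1,0,-1,-1,1,-2,-3,-1,-1,0,-4,-1,2,-4,-1,-4,2],
    [-23,3,2,11,23,14,22,2,12,1,4,18,121,82,72,-31,22,96,78,6,134,39,105,135],
    [-36,5,4,17,39,22,37,4,18,0,4,27,218,149,130,-54,39,175,138,8,243,67,191,244],
    [35,-6,-3,-18,-36,-21,-33,-4,-18,-2,-7,-25,-184,-126,-110,46,-34,-148,-118,-8,-206,-60,-162,-200],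
    [-53,9,6,26,55,32,53,6,26,2,8,39,304,208,182,-76,54,245,193,11,340,95,267,336],
    [33,-6,-5,-16,-34,-20,-33,-5,-16,-2,-4,-23,-191,-131,-115,47,-33,-155,-120,-5,-215,-58,-169,-213],
    [-45,7,6,22,46,26,44,5,22,3,7,32,257,176,156,-63,47,207,162,9,288,79,227,283],
    [31,-4,-4,-15,-32,-17,-31,-3,-15,-2,-4,-23,-184,-126,-113,45,-34,-147,-116,-7,-206,-55,-162,-203],
    [11,-3,-2,-5,-11,-7,-11,-2,-6,0,-2,-9,-63,-43,-36,16,-10,-52,-40,-1,-71,-20,-55,-68],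
    [0,1,0,0,0,1,0,1,0,-1,0,0,-4,-3,-4,0,-2,-2,-2,-1,-4,0,-4,-4],
    [1,-1,-1,0,-1,-1,-1,-1,0,0,-1,-1,-8,-6,-4,2,0,-9,-5,2,-10,-2,-8,-6],
    [0,0,0,0,0,0,0,0,0,0,0,1,0,-1,0,-1,-1,0,0,0,0,-1,-1,0],
    [14,0,-1,-7,-14,-7,-14,-1,-7,0,-1,-13,-78,-50,-49,20,-15,-58,-49,-6,-85,-21,-65,-92],
    [4,-1,-1,-2,-4,-2,-3,0,-2,0,0,-3,-23,-16,-14,6,-4,-18,-14,0,-26,-6,-20,-25],
    [2,-1,-1,-1,-1,-1,-2,-1,-1,-1,0,-1,-9,-6,-6,2,-1,-8,-5,1,-11,-2,-8,-11],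
    [0,0,0,0,1,0,1,-1,0,0,0,1,11,8,7,-3,2,9,7,0,12,3,10,9],
    [-4,1,0,2,3,2,3,1,2,0,1,4,12,7,7,-4,1,9,8,1,13,4,9,16],
    [-1,0,0,0,1,0,1,0,0,0,0,1,9,6,6,-2,1,7,6,0,10,2,8,11],
    [2,-1,0,-1,-2,-1,-1,0,-1,-1,-1,-1,-8,-6,-5,2,-1,-8,-6,0,-10,-3,-8,-5],
    [-1,0,0,0,1,1,1,0,1,0,0,1,5,3,2,-1,1,4,4,0,5,2,4,6],
    [-3,0,0,2,3,1,3,0,2,0,0,3,16,10,11,-4,4,11,10,2,17,4,13,18],
    [2,0,0,-1,-1,-1,-2,0,-1,-1,-1,-1,-6,-4,-4,1,-2,-4,-4,-1,-6,-3,-5,-8],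
    [-2,0,1,1,1,1,1,0,1,1,0,2,6,3,4,-2,1,4,3,0,7,0,4,8],
    [-2,0,0,1,2,1,2,0,1,0,0,2,11,7,7,-3,2,8,7,1,12,3,9,13]]

/-- The product with the form. -/
def y3_5G : List (List ℤ) := [[-3,-23,-35,32,-51,30,-44,33,9,2,0,-2,19,5,1,-1,-5,-3,1,-1,-5,2,-2,-3],
    [-20,-379,-628,567,-915,544,-768,554,178,15,14,-18,281,64,24,-22,-65,-29,24,-11,-71,21,-20,-43],
    [-34,-633,-1061,953,-1541,918,-1291,929,301,23,24,-28,470,107,42,-36,-107,-49,41,-20,-120,33,-31,-72],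
    [28,558,926,-840,1353,-804,1134,-816,-263,-21,-20,24,-412,-94,-36,32,95,41,-37,16,106,-30,28,63],
    [-46,-867,-1447,1303,-2109,1256,-1771,1276,411,34,33,-40,647,147,58,-50,-148,-68,57,-25,-166,46,-44,-99],
    [26,518,869,-781,1264,-755,1062,-764,-246,-20,-20,22,-386,-88,-35,29,87,40,-34,15,99,-27,26,59],
    [-35,-688,-1149,1036,-1675,999,-1411,1018,324,30,25,-31,517,118,45,-39,-117,-55,46,-19,-133,37,-36,-79],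
    [24,475,794,-715,1157,-691,976,-706,-223,-22,-17,22,-360,-82,-31,27,81,39,-31,13,93,-26,25,55],
    [11,184,308,-275,447,-266,374,-269,-89,-6,-8,10,-137,-31,-13,11,32,15,-12,6,35,-9,9,21],
    [-2,-21,-36,31,-51,30,-40,27,12,-2,2,-1,13,3,2,-1,-4,-1,1,-1,-3,0,0,-2],
    [1,9,17,-13,24,-14,20,-14,-6,0,-2,2,-7,-1,-1,1,2,2,-1,0,1,0,0,1],
    [-1,4,6,-7,9,-5,6,-3,-2,1,0,-2,0,0,0,0,0,-2,0,0,0,0,0,0],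
    [13,216,356,-321,519,-309,440,-321,-99,-13,-7,13,-170,-39,-13,13,39,20,-13,7,45,-13,13,26],
    [2,53,87,-79,127,-76,107,-78,-24,-3,-2,2,-39,-10,-3,3,9,4,-3,1,10,-3,3,6],
    [1,15,25,-22,37,-23,33,-24,-7,-1,-1,1,-13,-3,-2,1,3,2,-1,0,4,-1,1,2],
    [-2,-17,-28,24,-41,24,-35,26,8,1,1,-2,13,3,1,-2,-3,-2,1,0,-3,1,-1,-2],
    [-3,-50,-80,73,-118,70,-100,73,23,3,2,-4,39,9,3,-3,-10,-5,3,-1,-10,3,-3,-6],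
    [0,-5,-8,8,-12,8,-12,10,1,2,-1,0,6,2,0,0,-1,-2,0,0,-2,1,0,-1],
    [1,16,25,-24,38,-22,32,-24,-7,-1,0,1,-13,-3,-1,1,3,2,-2,1,4,-1,1,2],
    [-2,-28,-45,41,-65,38,-53,38,13,0,1,-1,19,5,2,-2,-5,-2,1,-2,-5,2,-1,-3],
    [-3,-39,-60,56,-90,53,-78,58,16,4,1,-3,33,8,2,-3,-8,-4,2,-1,-10,3,-3,-5],
    [0,19,30,-29,45,-27,39,-28,-8,-1,0,0,-13,-3,-1,1,3,1,-1,0,3,-2,1,2],
    [-1,-15,-25,21,-35,21,-30,23,7,1,1,-2,13,3,1,-1,-3,-2,1,-1,-3,1,-2,-2],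
    [-2,-33,-54,49,-79,47,-67,49,15,2,1,-2,26,6,2,-2,-6,-3,2,-1,-7,2,-2,-4]]

/-- The code. -/
def y3_6C : List ℕ := [10376306,8834968,10233593,9250941,8619252,2305917,3422446,1800396,3752221,2323523,15250575,10455684,16633685,9472640,5194500,7099268,1982880,9292615,14151447,14117645,14441301,5697022,1400154,8856666]

/-- The matrix. -/
def y3_6M : List (List ℤ) := [[-2,1,2,2,1,1,1,0,2,2,1,2,7,4,5,-2,2,5,3,-1,9,0,6,5],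
    [-20,8,20,9,13,2,10,3,21,19,11,19,118,88,77,-19,30,111,71,-22,158,20,120,45],
    [-27,8,30,11,19,-1,15,1,34,27,15,28,192,145,126,-28,54,178,117,-29,253,36,194,71],
    [27,-10,-27,-11,-19,-1,-13,-4,-30,-26,-16,-27,-168,-127,-110,26,-43,-160,-103,31,-226,-30,-172,-59],
    [-40,14,43,16,29,1,21,3,48,40,23,40,274,208,178,-41,73,259,168,-46,364,52,280,97],
    [23,-8,-25,-9,-17,1,-13,-2,-29,-23,-13,-23,-166,-127,-108,24,-45,-157,-102,26,-220,-33,-170,-58],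
    [-34,13,35,13,24,1,19,3,40,34,20,33,231,177,150,-34,60,220,143,-38,307,47,238,80],
    [24,-10,-25,-9,-16,0,-13,-1,-28,-24,-14,-23,-165,-127,-107,24,-43,-157,-102,27,-219,-34,-170,-56],
    [7,-2,-9,-3,-5,0,-4,0,-9,-8,-4,-8,-54,-40,-35,8,-15,-50,-32,9,-71,-9,-54,-20],
    [1,-1,0,0,0,0,-1,0,0,0,-1,0,-5,-5,-3,0,-1,-5,-4,0,-6,-3,-6,-2],
    [-1,1,-1,1,0,0,0,1,0,0,1,0,-7,-5,-4,1,-2,-6,-4,1,-8,-1,-7,-3],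
    [0,0,1,0,0,0,0,-1,0,1,0,1,6,4,4,-1,1,5,3,-1,7,0,6,3],
    [13,-6,-13,-6,-7,0,-7,0,-13,-13,-7,-13,-82,-62,-55,13,-21,-76,-49,13,-109,-15,-83,-31],
    [4,-2,-4,-2,-2,0,-2,-1,-4,-3,-2,-3,-22,-16,-14,3,-6,-20,-12,4,-29,-4,-22,-11],
    [0,0,-1,0,0,0,0,0,-1,-1,0,0,-2,-2,-1,0,-1,-3,-1,1,-4,0,-3,4],
    [0,0,1,0,0,0,0,-1,1,1,0,0,5,4,3,0,2,4,3,-1,6,1,5,2],
    [-4,2,4,2,2,1,2,1,3,4,2,4,20,14,13,-4,4,19,11,-5,27,2,20,10],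
    [-1,1,1,0,0,0,1,0,1,1,0,1,8,6,5,-1,1,8,5,-1,10,2,8,5],
    [1,-1,-1,0,-1,0,0,0,-1,-1,-1,-1,-8,-7,-5,1,-1,-9,-5,2,-11,-2,-9,-1],
    [-1,0,1,1,0,0,0,0,1,1,0,1,0,-1,1,0,1,-1,-1,0,1,-2,-1,-1],
    [-3,2,3,2,1,0,1,0,3,3,2,3,13,10,9,-2,4,12,7,-3,19,2,13,1],
    [2,-1,-1,-1,-1,-1,-1,-1,-1,-2,-1,-1,-4,-3,-3,1,0,-5,-3,2,-7,0,-5,0],
    [-2,1,2,1,1,0,1,0,1,2,1,1,13,10,9,-2,3,12,7,-2,17,2,14,6],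
    [-2,1,2,1,1,0,1,0,2,2,1,2,12,9,8,-2,3,11,7,-2,16,2,12,5]]

/-- The inverse. -/
def y3_6I : List (List ℤ) := [[3,-1,-2,-2,-1,-1,-1,0,-2,-2,-1,-2,-7,-4,-5,2,-2,-5,-3,1,-9,0,-6,-5],
    [20,-7,-20,-9,-13,-2,-10,-3,-21,-19,-11,-19,-118,-88,-77,19,-30,-111,-71,22,-158,-20,-120,-45],
    [27,-8,-29,-11,-19,1,-15,-1,-34,-27,-15,-28,-192,-145,-126,28,-54,-178,-117,29,-253,-36,-194,-71],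
    [-27,10,27,12,19,1,13,4,30,26,16,27,168,127,110,-26,43,160,103,-31,226,30,172,59],
    [40,-14,-43,-16,-28,-1,-21,-3,-48,-40,-23,-40,-274,-208,-178,41,-73,-259,-168,46,-364,-52,-280,-97],
    [-23,8,25,9,17,0,13,2,29,23,13,23,166,127,108,-24,45,157,102,-26,220,33,170,58],
    [34,-13,-35,-13,-24,-1,-18,-3,-40,-34,-20,-33,-231,-177,-150,34,-60,-220,-143,38,-307,-47,-238,-80],
    [-24,10,25,9,16,0,13,2,28,24,14,23,165,127,107,-24,43,157,102,-27,219,34,170,56],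
    [-7,2,9,3,5,0,4,0,10,8,4,8,54,40,35,-8,15,50,32,-9,71,9,54,20],
    [-1,1,0,0,0,0,1,0,0,1,1,0,5,5,3,0,1,5,4,0,6,3,6,2],
    [1,-1,1,-1,0,0,0,-1,0,0,0,0,7,5,4,-1,2,6,4,-1,8,1,7,3],
    [0,0,-1,0,0,0,0,1,0,-1,0,0,-6,-4,-4,1,-1,-5,-3,1,-7,0,-6,-3],
    [-13,6,13,6,7,0,7,0,13,13,7,13,83,62,55,-13,21,76,49,-13,109,15,83,31],
    [-4,2,4,2,2,0,2,1,4,3,2,3,22,17,14,-3,6,20,12,-4,29,4,22,11],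
    [0,0,1,0,0,0,0,0,1,1,0,0,2,2,2,0,1,3,1,-1,4,0,3,-4],
    [0,0,-1,0,0,0,0,1,-1,-1,0,0,-5,-4,-3,1,-2,-4,-3,1,-6,-1,-5,-2],
    [4,-2,-4,-2,-2,-1,-2,-1,-3,-4,-2,-4,-20,-14,-13,4,-3,-19,-11,5,-27,-2,-20,-10],
    [1,-1,-1,0,0,0,-1,0,-1,-1,0,-1,-8,-6,-5,1,-1,-7,-5,1,-10,-2,-8,-5],
    [-1,1,1,0,1,0,0,0,1,1,1,1,8,7,5,-1,1,9,6,-2,11,2,9,1],
    [1,0,-1,-1,0,0,0,0,-1,-1,0,-1,0,1,-1,0,-1,1,1,1,-1,2,1,1],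
    [3,-2,-3,-2,-1,0,-1,0,-3,-3,-2,-3,-13,-10,-9,2,-4,-12,-7,3,-18,-2,-13,-1],
    [-2,1,1,1,1,1,1,1,1,2,1,1,4,3,3,-1,0,5,3,-2,7,1,5,0],
    [2,-1,-2,-1,-1,0,-1,0,-1,-2,-1,-1,-13,-10,-9,2,-3,-12,-7,2,-17,-2,-13,-6],
    [2,-1,-2,-1,-1,0,-1,0,-2,-2,-1,-2,-12,-9,-8,2,-3,-11,-7,2,-16,-2,-12,-4]]

/-- The product with the form. -/
def y3_6G : List (List ℤ) := [[3,14,22,-17,29,-17,25,-20,-5,-1,0,2,-13,-3,0,1,3,2,0,1,3,-1,2,2],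
    [29,379,639,-559,903,-550,759,-549,-170,-6,-11,15,-283,-65,-22,21,64,28,-12,10,72,-22,16,42],
    [47,622,1061,-924,1495,-914,1257,-909,-280,-10,-18,23,-466,-108,-37,34,103,48,-20,18,119,-35,24,69],
    [-43,-566,-955,840,-1353,824,-1137,822,253,10,14,-21,424,97,33,-31,-95,-42,19,-15,-110,33,-22,-63],
    [68,879,1493,-1303,2109,-1287,1774,-1284,-395,-15,-25,34,-661,-152,-53,49,147,68,-29,24,170,-50,35,98],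
    [-39,-512,-873,761,-1233,755,-1039,751,230,9,15,-19,386,89,32,-28,-85,-40,17,-14,-100,29,-20,-57],
    [54,697,1183,-1033,1672,-1022,1411,-1022,-311,-14,-19,27,-528,-121,-42,39,116,54,-23,18,137,-40,29,78],
    [-37,-480,-814,709,-1149,704,-972,706,213,11,13,-19,366,84,29,-27,-80,-38,15,-12,-95,28,-21,-54],
    [-15,-192,-329,285,-463,282,-387,279,89,1,7,-8,141,33,12,-11,-32,-15,7,-6,-35,10,-7,-21],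
    [1,12,23,-20,32,-19,24,-16,-7,2,-1,0,-6,-2,-1,0,2,1,-1,1,1,0,-1,1],
    [-1,-12,-23,19,-32,19,-26,18,7,-1,2,-1,7,2,1,-1,-2,-1,1,0,-1,0,0,-1],
    [1,-1,-1,4,-3,2,-2,0,0,0,-1,2,0,0,0,1,0,1,0,0,-1,0,1,0],
    [-19,-214,-360,309,-505,309,-429,315,95,6,7,-13,170,38,12,-13,-38,-19,6,-6,-44,12,-12,-25],
    [-4,-52,-86,76,-122,75,-104,76,22,2,1,-2,40,10,3,-3,-9,-4,2,-1,-11,3,-3,-6],
    [-2,-17,-30,25,-42,26,-36,26,8,0,1,-1,14,3,2,-1,-3,-2,1,-1,-4,1,-1,-2],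
    [2,18,30,-25,42,-25,35,-26,-8,0,-1,1,-13,-3,-1,2,3,1,0,0,3,-1,1,2],
    [5,51,84,-73,119,-72,101,-74,-23,-1,-2,4,-40,-9,-3,3,10,5,-2,1,10,-3,3,6],
    [1,6,9,-7,12,-8,13,-11,-1,-2,0,1,-7,-2,0,1,1,2,0,0,2,-1,1,1],
    [-2,-28,-46,42,-66,39,-55,40,12,1,0,-1,20,4,1,-2,-4,-2,2,-1,-5,2,-1,-3],
    [2,29,47,-42,66,-39,54,-39,-13,0,-1,1,-20,-5,-1,2,5,2,-1,2,5,-2,1,3],
    [5,38,61,-52,86,-52,74,-56,-16,-2,-1,4,-34,-7,-2,3,8,4,-1,1,10,-2,3,5],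
    [-1,-18,-28,26,-41,25,-36,26,7,1,0,0,14,3,1,-1,-3,-1,0,0,-4,2,-1,-2],
    [1,19,32,-27,44,-27,37,-27,-9,0,-1,1,-14,-3,-1,1,3,1,-1,1,3,-1,2,2],
    [3,34,57,-49,80,-49,68,-50,-15,-1,-1,2,-27,-6,-2,2,6,3,-1,1,7,-2,2,4]]

end CfsgLib.CoOneLocal
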