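import Cfsg.Agent.Lib.CoOneLocal.Elements
import Cfsg.Agent.Lib.CoOneLocal.DataThree

/-!
# Checks of the elements for the prime 3
-/

set_option autoImplicit false
set_option maxRecDepth 100000

namespace CfsgLib.CoOneLocal

open CfsgLib.Rigid CfsgLib.Rigid.Co1

theorem x3_ok : elB gram x3M x3I x3G x3C = true := by decide +kernel

theorem t3_ok : elB gram t3M t3I t3G t3C = true := by decide +kernel

theorem y3_0_ok : elB gram y3_0M y3_0I y3_0G y3_0C = true := by decide +kernel

theorem y3_1_ok : elB gram y3_1M y3_1I y3_1G y3_1C = true := by decide +kernel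

theorem y3_2_ok : elB gram y3_2M y3_2I y3_2G y3_2C = true := by decide +kernel

theorem y3_3_ok : elB gram y3_3M y3_3I y3_3G y3_3C = true := by decide +kernel

theorem y3_4_ok : elB gram y3_4M y3_4I y3_4G y3_4C = true := by decide +kernel

theorem y3_5_ok : elB gram y3_5M y3_5I y3_5G y3_5C = true := by decide +kernel

theorem y3_6_ok : elB gram y3_6M y3_6I y3_6G y3_6C = true := by decide +kernel


/-- The generators of the alternating group. -/
def ys3 : List (List ℕ) := [y3_0C, y3_1C, y3_2C, y3_3C, y3_4C, y3_5C, y3_6C]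

/-- The relations. -/
noncomputable def rels3 : Bool :=
  eqL (prodC (List.replicate 3 x3C)) one && !(eqL x3C one) && !(eqL (ys3.getD 0 []) one) &&
  (List.range 7).all (fun i => eqL (prodC (List.replicate 3 (ys3.getD i []))) one &&
    eqL (prodC [x3C, ys3.getD i []]) (prodC [ys3.getD i [], x3C]) &&
    eqL (prodC [t3C, ys3.getD i []]) (prodC [ys3.getD i [], t3C]) &&
    (List.range 7).all fun j => Nat.beq i j ||
      eqL (prodC [ys3.getD i [], ys3.getD j [], ys3.getD i [], ys3.getD j []]) one) &&
  eqL (prodC [t3C, t3C]) one && !(eqL t3C one) && eqL (prodC [t3C, x3C]) (prodC [x3C, x3C, t3C])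

theorem rels3_ok : rels3 = true := by decide +kernel

end CfsgLib.CoOneLocal
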