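import Cfsg.Agent.Lib.Rigid.Co1Search

/-!
# Elements of the first Conway group given by their codes
-/

set_option autoImplicit false
set_option maxRecDepth 100000

namespace CfsgLib.CoOneLocal

open Cfsg CfsgLib.Rigid CfsgLib.Leech CfsgLib.Rigid.Co1

/-- The element with a given code. -/
noncomputable def el (M : List ℕ) : Spor.Co1 :=
  open scoped _root_.Classical in if h : ∃ g : Spor.Co1, act.C g = M then h.choose else 1

/-- The check of the matrices of an element. -/
noncomputable def elB (M N N' NG : List (List ℤ)) (C : List ℕ) : Bool :=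
  Basis.autTest M N N' NG && eqL (N.map pack) C

theorem code_el {N N' NG : List (List ℤ)} {C : List ℕ} (h : elB gram N N' NG C = true) : act.C (el C) = C := by
  simp only [elB, Bool.and_eq_true, eqL_iff] at h
  obtain ⟨g, hg⟩ := exists_gen h.1
  have hex : ∃ g : Spor.Co1, act.C g = C := ⟨g, hg.trans h.2⟩
  simp only [el, dif_pos hex]
  exact hex.choose_spec

/-- The code of a product. -/
noncomputable def prodC (L : List (List ℕ)) : List ℕ := L.foldr mulF one

theorem code_prod : ∀ {L : List (List ℕ)}, (∀ C ∈ L, act.C (el C) = C) → act.C (L.map el).prod = prodC L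
  | [], _ => one_eq
  | C :: L, h => by
    rw [List.map_cons, List.prod_cons, act.mul, h C List.mem_cons_self,
      code_prod fun D hD => h D (List.mem_cons_of_mem _ hD)]
    rfl

theorem prod_eq {L L' : List (List ℕ)} (hL : ∀ C ∈ L, act.C (el C) = C) (hL' : ∀ C ∈ L', act.C (el C) = C)
    (h : eqL (prodC L) (prodC L') = true) : (L.map el).prod = (L'.map el).prod :=
  injective_act (by rw [code_prod hL, code_prod hL', (eqL_iff _ _).1 h])

end CfsgLib.CoOneLocal
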