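import Cfsg.Agent.Lib.Presentations.AltCarmichael
import Cfsg.Agent.Lib.FGS.OrdersUpToFour

/-!
# Recognition of the two local subgroups from elements and an upper bound
-/

set_option autoImplicit false
set_option linter.style.haveILetI false
set_option linter.unusedSectionVars false

namespace CfsgLib.CoOneLocal

open Subgroup CfsgLib.Presentations

variable {H : Type*} [Group H] [Finite H]

/-- The index of a generator. -/
def gIdx {n : ℕ} (i : Carmichael.Idx (0 : Fin (n + 2)) 1) : Fin n :=
  ⟨i.1.val - 2, by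
    have := i.1.isLt
    have h0 : i.1.val ≠ 0 := fun e => i.2.1 (Fin.ext (by simpa using e))
    have h1 : i.1.val ≠ 1 := fun e => i.2.2 (Fin.ext (by simpa using e))
    omega⟩

theorem idx_ge {n : ℕ} (i : Carmichael.Idx (0 : Fin (n + 2)) 1) : 2 ≤ i.1.val := by
  have h0 : i.1.val ≠ 0 := fun e => i.2.1 (Fin.ext (by simpa using e))
  have h1 : i.1.val ≠ 1 := fun e => i.2.2 (Fin.ext (by simpa using e))
  omega

/-- An embedded alternating group from generators. -/
theorem exists_alt {n : ℕ} (hn : 3 ≤ n) (y : Fin n → H) (hy : Carmichael.CRels y) (hne : ∃ i, y i ≠ 1) :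
    ∃ f : alternatingGroup (Fin (n + 2)) →* H, Function.Injective f ∧ f.range = closure (Set.range y) := by
  have hc : (0 : Fin (n + 2)) ≠ 1 := by simp
  have hbij : Function.Bijective (gIdx (n := n)) := by
    refine ⟨fun i j e => Subtype.ext (Fin.ext ?_), fun k => ?_⟩
    · have e' : i.1.val - 2 = j.1.val - 2 := congrArg Fin.val e
      have := idx_ge i
      have := idx_ge j
      omega
    · exact ⟨⟨⟨k.val + 2, by omega⟩, by simp [Fin.ext_iff], by simp [Fin.ext_iff]⟩, Fin.ext (by simp [gIdx])⟩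
  obtain ⟨f, hf⟩ := Carmichael.exists_hom hc (fun i => y (gIdx i))
    ⟨fun i => hy.cube _, fun i j hij => hy.pair _ _ fun e => hij (hbij.1 e)⟩
  haveI : IsSimpleGroup (alternatingGroup (Fin (n + 2))) := alternatingGroup.isSimpleGroup (by simp; omega)
  refine ⟨f, ?_, ?_⟩
  · rw [← MonoidHom.ker_eq_bot_iff]
    refine (IsSimpleGroup.eq_bot_or_eq_top_of_normal f.ker f.normal_ker).resolve_right fun h => ?_
    obtain ⟨i, hi⟩ := hne
    obtain ⟨k, rfl⟩ := hbij.2 i
    exact hi (by rw [← hf k]; exact MonoidHom.mem_ker.1 (h ▸ mem_top _))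
  · rw [MonoidHom.range_eq_map, ← Carmichael.gen_closure hc, MonoidHom.map_closure, ← Set.range_comp]
    refine congrArg _ (Set.ext fun z => ⟨?_, ?_⟩)
    · rintro ⟨i, rfl⟩; exact ⟨_, (hf i).symm⟩
    · rintro ⟨i, rfl⟩
      obtain ⟨k, rfl⟩ := hbij.2 i
      exact ⟨k, hf k⟩

theorem center_alt {n : ℕ} (hn : 5 ≤ n) (b : alternatingGroup (Fin n)) (hb : ∀ a, a * b = b * a) : b = 1 := by
  haveI : IsSimpleGroup (alternatingGroup (Fin n)) := alternatingGroup.isSimpleGroup (by simpa using hn)
  haveI hN : (center (alternatingGroup (Fin n))).Normal := inferInstance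
  rcases IsSimpleGroup.eq_bot_or_eq_top_of_normal _ hN with h | h
  · exact mem_bot.1 (h ▸ mem_center_iff.2 hb)
  · exfalso
    have hc : ∀ a c : alternatingGroup (Fin n), a * c = c * a := fun a c =>
      mem_center_iff.1 (h ▸ mem_top c) a
    have e := hc (Carmichael.gen (show (⟨0, by omega⟩ : Fin n) ≠ ⟨1, by omega⟩ by simp) ⟨⟨2, by omega⟩, by simp, by simp⟩)
      (Carmichael.gen (show (⟨0, by omega⟩ : Fin n) ≠ ⟨1, by omega⟩ by simp) ⟨⟨3, by omega⟩, by simp, by simp⟩)
    have e' := Equiv.congr_fun (congrArg Subtype.val e) ⟨0, by omega⟩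
    simp [Carmichael.cyc, Equiv.swap_apply_def] at e'

/-- The product of two commuting subgroups, the second an alternating group. -/
theorem nonempty_prod_alt {n : ℕ} (hn : 5 ≤ n) {N : Subgroup H} {K : Subgroup H} (hK : K ≤ N)
    (f : alternatingGroup (Fin n) →* H) (hf : Function.Injective f) (hfN : f.range ≤ N)
    (hcomm : ∀ k ∈ K, ∀ a, Commute k (f a))
    (hcard : Nat.card ↥N < 2 * (Nat.card ↥K * Nat.card (alternatingGroup (Fin n)))) :
    Nonempty (↥N ≃* ↥K × alternatingGroup (Fin n)) := by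
  let g : ↥K × alternatingGroup (Fin n) →* ↥N :=
    MonoidHom.noncommCoprod (Subgroup.inclusion hK) ((f.codRestrict N fun a => hfN ⟨a, rfl⟩))
      fun k a => Subtype.ext (hcomm k k.2 a)
  have hg : Function.Injective g := by
    rw [← MonoidHom.ker_eq_bot_iff, eq_bot_iff]
    rintro ⟨k, a⟩ h
    have e : (k : H) * f a = 1 := congrArg Subtype.val (MonoidHom.mem_ker.1 h)
    have ha : a = 1 := center_alt hn a fun c => hf (by
      rw [map_mul, map_mul, eq_inv_of_mul_eq_one_right e]
      exact ((hcomm k k.2 c).inv_left).eq.symm)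
    rw [ha, map_one, mul_one] at e
    rw [mem_bot, Prod.ext_iff]
    exact ⟨Subtype.ext e, ha⟩
  have hbij : Function.Bijective g := hg.bijective_of_nat_card_le (by
    obtain ⟨c, hc⟩ := Subgroup.card_dvd_of_injective g hg
    have hpos : 0 < Nat.card ↥N := Nat.card_pos
    rw [hc, Nat.card_prod] at hpos hcard
    have hc1 : c = 1 := by
      have h2 : c < 2 := Nat.lt_of_mul_lt_mul_left
        (a := Nat.card ↥K * Nat.card (alternatingGroup (Fin n))) (hcard.trans_le (le_of_eq (Nat.mul_comm _ _)))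
      have h0 : c ≠ 0 := by
        rintro rfl
        simp at hpos
      omega
    rw [hc, hc1, mul_one])
  exact ⟨(MulEquiv.ofBijective g hbij).symm⟩

/-- An element of order 7 with an alternating group of degree 7 and a bound. -/
theorem iso_seven {x : H} (hx : orderOf x = 7) (y : Fin 5 → H) (hy : Carmichael.CRels y) (hne : ∃ i, y i ≠ 1)
    (hxy : ∀ i, Commute x (y i)) (hcard : Nat.card ↥(centralizer ({x} : Set H)) < 35280) :
    Nonempty (↥(centralizer ((zpowers x : Subgroup H) : Set H)) ≃*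
      Multiplicative (ZMod 7) × alternatingGroup (Fin 7)) := by
  have hcz : centralizer ((zpowers x : Subgroup H) : Set H) = centralizer ({x} : Set H) := by
    rw [zpowers_eq_closure, centralizer_closure]
  rw [hcz]
  obtain ⟨f, hf, hr⟩ := exists_alt (by norm_num) y hy hne
  have hle : f.range ≤ centralizer ({x} : Set H) := by
    rw [hr, closure_le]
    rintro _ ⟨i, rfl⟩
    exact mem_centralizer_singleton_iff.2 (hxy i).eq.symm
  have hcomm : ∀ k ∈ zpowers x, ∀ a, Commute k (f a) := fun k hk a => by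
    obtain ⟨i, rfl⟩ := mem_zpowers_iff.1 hk
    have h : f a * x = x * f a := mem_centralizer_singleton_iff.1 (hle ⟨a, rfl⟩)
    exact (show Commute x (f a) from h.symm).zpow_left i
  have h7 : Nat.card ↥(zpowers x) = 7 := by rw [Nat.card_zpowers, hx]
  obtain ⟨e⟩ := nonempty_prod_alt (show 5 ≤ 7 by norm_num)
    (zpowers_le.2 (mem_centralizer_singleton_iff.2 rfl)) f hf hle hcomm
    (hcard.trans_le (le_of_eq (by rw [h7, nat_card_alternatingGroup, Nat.card_fin]; rfl)))
  have e7 : ↥(zpowers x) ≃* Multiplicative (ZMod 7) :=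
    mulEquivOfCyclicCardEq (by rw [h7]; simp)
  exact ⟨e.trans (MulEquiv.prodCongr e7 (MulEquiv.refl _))⟩

/-- An element of order 3, an inverting involution, an alternating group of degree 9 and a bound. -/
theorem iso_three {x τ : H} (hx : orderOf x = 3) (hτ : orderOf τ = 2) (hinv : τ * x = x⁻¹ * τ)
    (y : Fin 7 → H) (hy : Carmichael.CRels y) (hne : ∃ i, y i ≠ 1) (hxy : ∀ i, Commute x (y i))
    (hτy : ∀ i, Commute τ (y i)) (hcard : Nat.card ↥(centralizer ({x} : Set H)) ≤ 544320) :
    Nonempty (↥(normalizer ((zpowers x : Subgroup H) : Set H)) ≃*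
      Equiv.Perm (Fin 3) × alternatingGroup (Fin 9)) := by
  classical
  set N := normalizer ((zpowers x : Subgroup H) : Set H) with hN
  have hx3 : x ^ 3 = 1 := by rw [← hx, pow_orderOf_eq_one]
  have hconj : τ * x * τ⁻¹ = x⁻¹ := by rw [hinv, mul_inv_cancel_right]
  have hpow : ∀ g : H, g * x * g⁻¹ ∈ zpowers x → ∀ z ∈ zpowers x, g * z * g⁻¹ ∈ zpowers x := by
    intro g hg z hz
    obtain ⟨i, rfl⟩ := mem_zpowers_iff.1 hz
    rw [← conj_zpow]
    exact zpow_mem hg i
  have hτN : τ ∈ N := mem_normalizer_iff.2 fun z => ⟨hpow τ (by rw [hconj]; exact inv_mem (mem_zpowers x)) z,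
    fun hz => by
      have h := hpow τ⁻¹ (by
        have hττ : τ⁻¹ = τ := inv_eq_of_mul_eq_one_right (by rw [← pow_two, ← hτ, pow_orderOf_eq_one])
        rw [inv_inv, hττ]
        have h2 : τ * x * τ = x⁻¹ := by rw [← hconj, hττ]
        rw [h2]
        exact inv_mem (mem_zpowers x)) _ hz
      simpa [mul_assoc] using h⟩
  obtain ⟨f, hf, hr⟩ := exists_alt (by norm_num) y hy hne
  have hCN : centralizer ({x} : Set H) ≤ N := by
    rw [← centralizer_closure, ← zpowers_eq_closure]
    exact centralizer_le_normalizer _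
  have hfc : f.range ≤ centralizer ({x} : Set H) ⊓ centralizer ({τ} : Set H) := by
    rw [hr, closure_le]
    rintro _ ⟨i, rfl⟩
    exact ⟨mem_centralizer_singleton_iff.2 (hxy i).eq.symm, mem_centralizer_singleton_iff.2 (hτy i).eq.symm⟩
  set K := zpowers x ⊔ zpowers τ with hK
  have hKN : K ≤ N := sup_le (zpowers_le.2 (le_normalizer (mem_zpowers x))) (zpowers_le.2 hτN)
  have hcomm : ∀ k ∈ K, ∀ a, Commute k (f a) := fun k hk a => by
    have hle : K ≤ centralizer ({f a} : Set H) := by
      refine sup_le (zpowers_le.2 ?_) (zpowers_le.2 ?_) <;>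
        refine mem_centralizer_singleton_iff.2 (Eq.symm ?_)
      exacts [mem_centralizer_singleton_iff.1 (hfc ⟨a, rfl⟩).1, mem_centralizer_singleton_iff.1 (hfc ⟨a, rfl⟩).2]
    exact mem_centralizer_singleton_iff.1 (hle hk)
  have hcardK : Nat.card ↥K = 6 := by
    have hn : zpowers τ ≤ normalizer ((zpowers x : Subgroup H) : Set H) := zpowers_le.2 hτN
    have hdis : Disjoint (zpowers x) (zpowers τ) := disjoint_of_coprime_natCard
      (by rw [Nat.card_zpowers, Nat.card_zpowers, hx, hτ]; norm_num)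
    let g : ↥(zpowers x) × ↥(zpowers τ) → ↥K := fun p =>
      ⟨p.1 * p.2, mul_mem (mem_sup_left p.1.2) (mem_sup_right p.2.2)⟩
    have hg : Function.Bijective g := by
      refine ⟨fun p q e => mul_injective_of_disjoint hdis (congrArg Subtype.val e :), fun z => ?_⟩
      have h : ((z : H)) ∈ ((zpowers x ⊔ zpowers τ : Subgroup H) : Set H) := z.2
      rw [coe_mul_of_right_le_normalizer_left _ _ hn] at h
      obtain ⟨a, ha, b, hb, e⟩ := Set.mem_mul.1 h
      exact ⟨(⟨a, ha⟩, ⟨b, hb⟩), Subtype.ext e⟩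
    rw [← Nat.card_eq_of_bijective g hg, Nat.card_prod, Nat.card_zpowers, Nat.card_zpowers, hx, hτ]
  obtain ⟨eK⟩ := CfsgLib.FGS.OrdersFour.nonempty_perm_three hcardK
    ⟨τ, mem_sup_right (mem_zpowers τ)⟩ ⟨x, mem_sup_left (mem_zpowers x)⟩
    (by rw [Subgroup.orderOf_mk]; exact hτ)
    fun h => by
      have e : τ * x = x * τ := congrArg Subtype.val h.eq
      rw [hinv, mul_left_inj] at e
      have : x ^ 2 = 1 := by rw [pow_two]; nth_rw 1 [← e]; exact inv_mul_cancel x
      have := orderOf_dvd_of_pow_eq_one this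
      rw [hx] at this
      omega
  have hNcard : Nat.card ↥N ≤ 2 * 544320 := by
    have key : ∀ g : ↥N, (g : H) ∈ centralizer ({x} : Set H) ∨ τ * (g : H) ∈ centralizer ({x} : Set H) := by
      intro g
      have hg := (mem_normalizer_iff.1 g.2 x).1 (mem_zpowers x)
      obtain ⟨i, hi⟩ := mem_zpowers_iff.1 hg
      rw [← zpow_mod_orderOf, hx] at hi
      rcases (show i % ((3 : ℕ) : ℤ) = 0 ∨ i % ((3 : ℕ) : ℤ) = 1 ∨ i % ((3 : ℕ) : ℤ) = 2 by omega) with e | e | e <;>
        rw [e] at hi
      · exfalso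
        rw [zpow_zero, eq_comm, conj_eq_one_iff] at hi
        rw [hi, orderOf_one] at hx
        omega
      · refine .inl (mem_centralizer_singleton_iff.2 ?_)
        rw [zpow_one] at hi
        calc (g : H) * x = g * x * (g : H)⁻¹ * g := by group
          _ = x * g := by rw [← hi]
      · refine .inr (mem_centralizer_singleton_iff.2 ?_)
        have e2 : (g : H) * x * (g : H)⁻¹ = x⁻¹ := by
          rw [← hi, zpow_two, eq_inv_iff_mul_eq_one, ← pow_two, ← pow_succ]
          exact hx3
        calc τ * (g : H) * x = τ * (g * x * (g : H)⁻¹) * g := by group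
          _ = τ * x⁻¹ * τ⁻¹ * (τ * g) := by rw [e2]; group
          _ = x * (τ * g) := by rw [show τ * x⁻¹ * τ⁻¹ = (τ * x * τ⁻¹)⁻¹ by group, hconj, inv_inv]
    let F : ↥N → Bool × ↥(centralizer ({x} : Set H)) := fun g =>
      if h : (g : H) ∈ centralizer ({x} : Set H) then (false, ⟨g, h⟩) else (true, ⟨τ * g, (key g).resolve_left h⟩)
    have hF : Function.Injective F := by
      intro a b e
      simp only [F] at e
      split at e <;> split at e <;> simp [Prod.ext_iff] at e
      all_goals exact e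
    have := Nat.card_le_card_of_injective F hF
    rw [Nat.card_prod, Nat.card_eq_fintype_card (α := Bool), Fintype.card_bool] at this
    exact this.trans (Nat.mul_le_mul_left 2 hcard)
  obtain ⟨e⟩ := nonempty_prod_alt (show 5 ≤ 9 by norm_num) hKN f hf
    (fun z hz => hCN (hfc hz).1) hcomm
    (hNcard.trans_lt (by rw [hcardK, nat_card_alternatingGroup, Nat.card_fin]; decide))
  exact ⟨e.trans (MulEquiv.prodCongr eK (MulEquiv.refl _))⟩

end CfsgLib.CoOneLocal
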