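import Cfsg.Agent.Lib.CoOneLocal.Ident
import Cfsg.Agent.Lib.CoOneLocal.CheckSeven
import Cfsg.Agent.Lib.CoOneLocal.CheckThree

/-!
# The two local subgroups of the first Conway group, given bounds on two centralisers
-/

set_option autoImplicit false
set_option maxRecDepth 100000

namespace CfsgLib.CoOneLocal

open Cfsg CfsgLib.Rigid CfsgLib.Rigid.Co1 Subgroup CfsgLib.Presentations

instance : Finite Spor.Co1 := CfsgLib.Leech.ConwaySimple.finite_co1

/-- The element of order seven. -/
noncomputable def x7 : Spor.Co1 := el x7C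

/-- The element of order three. -/
noncomputable def x3 : Spor.Co1 := el x3C

theorem code_x7 : act.C x7 = x7C := code_el x7_ok

theorem code_x3 : act.C x3 = x3C := code_el x3_ok

theorem code_ys7 : ∀ C ∈ ys7, act.C (el C) = C := by
  simp only [ys7, List.forall_mem_cons]
  exact ⟨code_el y7_0_ok, code_el y7_1_ok, code_el y7_2_ok, code_el y7_3_ok, code_el y7_4_ok, fun _ h => (List.not_mem_nil h).elim⟩

theorem code_ys3 : ∀ C ∈ ys3, act.C (el C) = C := by
  simp only [ys3, List.forall_mem_cons]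
  exact ⟨code_el y3_0_ok, code_el y3_1_ok, code_el y3_2_ok, code_el y3_3_ok, code_el y3_4_ok, code_el y3_5_ok,
    code_el y3_6_ok, fun _ h => (List.not_mem_nil h).elim⟩

theorem getD_mem {L : List (List ℕ)} {i : ℕ} (h : i < L.length) : L.getD i [] ∈ L := by
  rw [List.getD_eq_getElem _ _ h]; exact List.getElem_mem _

theorem el_ne_one {C : List ℕ} (hC : act.C (el C) = C) (h : eqL C one = false) : el C ≠ 1 := by
  intro e
  rw [e, one_eq] at hC
  rw [← hC, (eqL_iff _ _).2 rfl] at h
  exact Bool.noConfusion h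

theorem pow_eq_one {C : List ℕ} (hC : act.C (el C) = C) {n : ℕ}
    (h : eqL (prodC (List.replicate n C)) one = true) : el C ^ n = 1 := by
  rw [← List.prod_replicate, ← List.map_replicate]
  exact injective_act (by
    rw [code_prod fun D hD => by rw [List.eq_of_mem_replicate hD]; exact hC, (eqL_iff _ _).1 h, one_eq])

theorem comm_of {A B : List ℕ} (hA : act.C (el A) = A) (hB : act.C (el B) = B)
    (h : eqL (prodC [A, B]) (prodC [B, A]) = true) : Commute (el A) (el B) := by
  have := prod_eq (L := [A, B]) (L' := [B, A]) (by simp [hA, hB]) (by simp [hA, hB]) h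
  exact (by simpa using this : el A * el B = el B * el A)

theorem pair_of {A B : List ℕ} (hA : act.C (el A) = A) (hB : act.C (el B) = B)
    (h : eqL (prodC [A, B, A, B]) one = true) : (el A * el B) ^ 2 = 1 := by
  have := prod_eq (L := [A, B, A, B]) (L' := []) (by simp [hA, hB]) (by simp) h
  rw [pow_two]
  simpa [mul_assoc] using this

/-- The centraliser of the group of order seven, given the bound. -/
theorem iso_x7 (h : Nat.card ↥(centralizer ({x7} : Set Spor.Co1)) < 35280) :
    Nat.card ↥(zpowers x7) = 7 ∧ Nonempty (↥(centralizer ((zpowers x7 : Subgroup Spor.Co1) : Set Spor.Co1)) ≃*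
      Multiplicative (ZMod 7) × alternatingGroup (Fin 7)) := by
  have hr := rels7_ok
  simp only [rels7, Bool.and_eq_true, Bool.not_eq_true', List.all_eq_true, List.mem_range, Bool.or_eq_true,
    Nat.beq_eq] at hr
  obtain ⟨⟨⟨hp, hx1⟩, hy1⟩, hy⟩ := hr
  have : Fact (Nat.Prime 7) := ⟨by norm_num⟩
  have ho : orderOf x7 = 7 := orderOf_eq_prime (pow_eq_one code_x7 hp) (el_ne_one code_x7 hx1)
  have hm : ∀ i : Fin 5, ys7.getD i.val [] ∈ ys7 := fun i => getD_mem (by simp [ys7])
  refine ⟨by rw [Nat.card_zpowers, ho], iso_seven ho (fun i => el (ys7.getD i.val []))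
    ⟨fun i => pow_eq_one (code_ys7 _ (hm i)) (hy i i.2).1.1, fun i j hij => ?_⟩
    ⟨0, el_ne_one (code_ys7 _ (hm 0)) hy1⟩ (fun i => comm_of code_x7 (code_ys7 _ (hm i)) (hy i i.2).1.2) h⟩
  exact pair_of (code_ys7 _ (hm i)) (code_ys7 _ (hm j))
    (((hy i i.2).2 j j.2).resolve_left fun e => hij (Fin.ext e))

/-- The normaliser of the group of order three, given the bound. -/
theorem iso_x3 (h : Nat.card ↥(centralizer ({x3} : Set Spor.Co1)) ≤ 544320) :
    Nat.card ↥(zpowers x3) = 3 ∧ Nonempty (↥(normalizer ((zpowers x3 : Subgroup Spor.Co1) : Set Spor.Co1)) ≃*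
      Equiv.Perm (Fin 3) × alternatingGroup (Fin 9)) := by
  have hr := rels3_ok
  simp only [rels3, Bool.and_eq_true, Bool.not_eq_true', List.all_eq_true, List.mem_range, Bool.or_eq_true,
    Nat.beq_eq] at hr
  obtain ⟨⟨⟨⟨⟨⟨hp, hx1⟩, hy1⟩, hy⟩, ht2⟩, ht1⟩, htx⟩ := hr
  have ho : orderOf x3 = 3 := orderOf_eq_prime (pow_eq_one code_x3 hp) (el_ne_one code_x3 hx1)
  have hm : ∀ i : Fin 7, ys3.getD i.val [] ∈ ys3 := fun i => getD_mem (by simp [ys3])
  have hct : act.C (el t3C) = t3C := code_el t3_ok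
  have hto : orderOf (el t3C) = 2 := orderOf_eq_prime
    (pow_eq_one hct (by simpa [List.replicate] using ht2)) (el_ne_one hct ht1)
  have hinv : el t3C * x3 = x3⁻¹ * el t3C := by
    have e := prod_eq (L := [t3C, x3C]) (L' := [x3C, x3C, t3C])
      (by simp [hct, show act.C (el x3C) = x3C from code_x3])
      (by simp [hct, show act.C (el x3C) = x3C from code_x3]) htx
    have e3 : x3⁻¹ = x3 * x3 := inv_eq_of_mul_eq_one_right (by
      rw [← mul_assoc, ← pow_two, ← pow_succ, show 2 + 1 = orderOf x3 from ho.symm, pow_orderOf_eq_one])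
    rw [e3]
    simpa [x3, mul_assoc] using e
  refine ⟨by rw [Nat.card_zpowers, ho], iso_three ho hto hinv (fun i => el (ys3.getD i.val []))
    ⟨fun i => pow_eq_one (code_ys3 _ (hm i)) (hy i i.2).1.1.1, fun i j hij => ?_⟩
    ⟨0, el_ne_one (code_ys3 _ (hm 0)) hy1⟩ (fun i => comm_of code_x3 (code_ys3 _ (hm i)) (hy i i.2).1.1.2)
    (fun i => comm_of hct (code_ys3 _ (hm i)) (hy i i.2).1.2) h⟩
  exact pair_of (code_ys3 _ (hm i)) (code_ys3 _ (hm j))
    (((hy i i.2).2 j j.2).resolve_left fun e => hij (Fin.ext e))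

end CfsgLib.CoOneLocal
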